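import Groth.Agent.H27Frob.LiftCriterion
import Groth.Agent.H9Smooth.Lift
import Groth.Agent.H9Hens.EtaleQuotLift
import Mathlib

/-! Frobenius lifts on formally smooth liftings; smooth and etale algebras are F-liftable. -/

set_option autoImplicit false
set_option linter.style.haveILetI false
universe u v

namespace Groth.Agent.H27Frob

open TensorProduct

theorem exists_frob_formallySmooth (p : ℕ) [hp : Fact p.Prime] {R : Type u} [CommRing R] {S : Type v}
    [CommRing S] [Algebra R S] [Algebra.FormallySmooth R S] {C : Type v} [CommRing C] (hpC : (p : C) = 0)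
    (π : S →+* C) (hπ : Function.Surjective π) (hnil : IsNilpotent (RingHom.ker π)) (σ : R →+* R)
    (hσ : ∀ r, π (algebraMap R S (σ r)) = π (algebraMap R S r) ^ p) :
    ∃ Φ : S →+* S, Φ.comp (algebraMap R S) = (algebraMap R S).comp σ ∧ ∀ s, π (Φ s) = π s ^ p := by
  let F : C →+* C :=
    { toFun := fun c => c ^ p
      map_one' := one_pow p
      map_mul' := fun a b => mul_pow a b p
      map_zero' := zero_pow hp.out.ne_zero
      map_add' := fun a b => by
        show (a + b) ^ p = a ^ p + b ^ p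
        rw [(Commute.all a b).add_pow_prime_eq hp.out, hpC]
        ring }
  have key : ∀ (T : Type v) [CommRing T] (α : R →+* T) (τ : T →+* C),
      Function.Surjective τ → IsNilpotent (RingHom.ker τ) →
      (∀ r, τ (α r) = π (algebraMap R S r) ^ p) →
      ∃ Φ : S →+* T, Φ.comp (algebraMap R S) = α ∧ ∀ s, τ (Φ s) = π s ^ p := by
    intro T _ α τ hτ hn hc
    letI : Algebra R T := α.toAlgebra
    letI : Algebra R C := (τ.comp α).toAlgebra
    let g : T →ₐ[R] C := { τ with commutes' := fun r => rfl }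
    let f : S →ₐ[R] C := { F.comp π with commutes' := fun r => (hc r).symm }
    exact ⟨(Algebra.FormallySmooth.liftOfSurjective f g hτ hn).toRingHom,
      RingHom.ext (Algebra.FormallySmooth.liftOfSurjective f g hτ hn).commutes,
      fun s => Algebra.FormallySmooth.liftOfSurjective_apply f g hτ hn s⟩
  exact key S ((algebraMap R S).comp σ) π hπ hnil hσ

variable (p : ℕ) [Fact p.Prime] (k : Type u) [Field k] [CharP k p] [PerfectRing k p]

theorem isNilpotent_ker_of_natCast_sq {S C : Type v} [CommRing S] [CommRing C] (π : S →+* C)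
    (hp : (p : S) * p = 0) (hker : ∀ x, π x = 0 → x ∈ Ideal.span {(p : S)}) :
    IsNilpotent (RingHom.ker π) := by
  refine ⟨2, eq_bot_iff.mpr ((Ideal.pow_right_mono (show RingHom.ker π ≤ Ideal.span {(p : S)} from hker) 2).trans ?_)⟩
  rw [Ideal.span_singleton_pow, pow_two, hp, Ideal.span_singleton_eq_bot.mpr rfl]

theorem isFLiftable_of_smooth {A : Type u} [CommRing A] [Algebra k A] [Algebra.Smooth k A] :
    FrobAlg.IsFLiftable p k A := by
  let R := FrobAlg.W2 p k
  let I : Ideal R := RingHom.ker (FrobAlg.res p k)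
  let e : (R ⧸ I) ≃+* k := RingHom.quotientKerEquivOfSurjective (res_surjective p k)
  letI : Algebra (R ⧸ I) k := e.toRingHom.toAlgebra
  letI : Algebra (R ⧸ I) A := ((algebraMap k A).comp e.toRingHom).toAlgebra
  haveI : IsScalarTower (R ⧸ I) k A := IsScalarTower.of_algebraMap_eq' rfl
  letI : Algebra R A := ((algebraMap k A).comp (FrobAlg.res p k)).toAlgebra
  haveI : IsScalarTower R (R ⧸ I) A := IsScalarTower.of_algebraMap_eq' rfl
  haveI : Algebra.Smooth (R ⧸ I) A := by
    haveI : Algebra.Smooth (R ⧸ I) k := Algebra.Smooth.of_equiv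
      (AlgEquiv.ofBijective (Algebra.ofId (R ⧸ I) k) e.bijective)
    exact Algebra.Smooth.comp (R ⧸ I) k A
  obtain ⟨B, _, _, _, ρ, hρ, hker⟩ := H9Smooth.exists_smooth_lift I (A₀ := A)
  haveI : Module.Flat R B := Algebra.Smooth.flat R B
  have hI : I.map (algebraMap R B) = RingHom.ker ρ.toRingHom := by
    refine le_antisymm (Ideal.map_le_iff_le_comap.mpr fun r hr => ?_) fun x hx => hker x hx
    show ρ (algebraMap R B r) = 0
    rw [ρ.commutes]
    show algebraMap k A (FrobAlg.res p k r) = 0
    rw [show FrobAlg.res p k r = 0 from hr, map_zero]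
  have hspan : I.map (algebraMap R B) = Ideal.span {(p : B)} := by
    show (RingHom.ker (FrobAlg.res p k)).map _ = _
    rw [ker_res, Ideal.map_span, Set.image_singleton, map_natCast]
  obtain ⟨Φ, hΦ, hΦ'⟩ := exists_frob_formallySmooth p (IsLift_map_natCast p k (A := A)) ρ.toRingHom hρ
    (isNilpotent_ker_of_natCast_sq p _ (natCast_sq_of_hom p k (algebraMap R B)) fun x hx => hspan ▸ hker x hx)
    (FrobAlg.sigma p k) (fun r => by
      show ρ (algebraMap R B (FrobAlg.sigma p k r)) = ρ (algebraMap R B r) ^ p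
      rw [ρ.commutes, ρ.commutes]
      show algebraMap k A (FrobAlg.res p k _) = algebraMap k A (FrobAlg.res p k r) ^ p
      rw [FrobAlg.res_apply, FrobAlg.res_apply, WittGrp.coeff_frob, map_pow])
  exact ⟨B, inferInstance, algebraMap R B, ρ.toRingHom, Φ,
    ⟨⟨RingHom.flat_algebraMap_iff.mpr inferInstance, hρ, hI.symm, ρ.comp_algebraMap⟩, hΦ, hΦ'⟩⟩

theorem isFLiftable_of_etale {A C : Type v} [CommRing A] [CommRing C] [Algebra k A] [Algebra k C]
    [Algebra A C] [IsScalarTower k A C] [Algebra.Etale A C] (hA : FrobAlg.IsFLiftable p k A) :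
    FrobAlg.IsFLiftable p k C := by
  obtain ⟨B, _, ι, π, Φ, h⟩ := hA
  let I : Ideal B := RingHom.ker π
  let e : (B ⧸ I) ≃+* A := RingHom.quotientKerEquivOfSurjective h.surj
  letI : Algebra (B ⧸ I) A := e.toRingHom.toAlgebra
  letI : Algebra (B ⧸ I) C := ((algebraMap A C).comp e.toRingHom).toAlgebra
  haveI : IsScalarTower (B ⧸ I) A C := IsScalarTower.of_algebraMap_eq' rfl
  haveI : Algebra.Etale (B ⧸ I) C := by
    haveI : Algebra.Etale (B ⧸ I) A := Algebra.Etale.of_equiv
      (AlgEquiv.ofBijective (Algebra.ofId (B ⧸ I) A) e.bijective)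
    exact Algebra.Etale.comp (B ⧸ I) A C
  obtain ⟨S, _, _, _, ⟨eS⟩⟩ := H9Hens.exists_etale_lift_quotient B I C
  let πC : S →+* C := eS.toRingEquiv.toRingHom.comp (Algebra.TensorProduct.includeRight (R := B) (A := B ⧸ I) (B := S)).toRingHom
  have hsurj : Function.Surjective πC := eS.surjective.comp
    (Algebra.TensorProduct.includeRight_surjective _ Ideal.Quotient.mk_surjective)
  have hcomm : ∀ b, πC (algebraMap B S b) = algebraMap A C (π b) := by
    intro b
    show eS ((1 : B ⧸ I) ⊗ₜ[B] algebraMap B S b) = _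
    rw [Algebra.algebraMap_eq_smul_one, TensorProduct.tmul_smul, TensorProduct.smul_tmul',
      Algebra.smul_def, mul_one]
    show eS (algebraMap (B ⧸ I) ((B ⧸ I) ⊗[B] S) (Ideal.Quotient.mk I b)) = _
    rw [eS.commutes]
    rfl
  have hker : RingHom.ker πC = I.map (algebraMap B S) := by
    refine le_antisymm (fun x hx => ?_) (Ideal.map_le_iff_le_comap.mpr fun b hb => ?_)
    · have h0 : (1 : B ⧸ I) ⊗ₜ[B] x = 0 := eS.injective (hx.trans (map_zero eS).symm)
      have := congrArg (quotTensorEquivQuotSMul S I) h0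
      rw [LinearEquiv.map_zero, show (1 : B ⧸ I) = Ideal.Quotient.mk I 1 from (map_one _).symm,
        quotTensorEquivQuotSMul_mk_tmul, one_smul, Submodule.Quotient.mk_eq_zero, Ideal.smul_top_eq_map] at this
      exact this
    · show πC (algebraMap B S b) = 0
      rw [hcomm, show π b = 0 from hb, map_zero]
  have hspan : I.map (algebraMap B S) = Ideal.span {(p : S)} := by
    show (RingHom.ker π).map _ = _
    rw [h.ker_eq, ker_res, Ideal.map_span, Set.image_singleton, map_natCast, Ideal.map_span,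
      Set.image_singleton, map_natCast]
  obtain ⟨ΦS, hΦ, hΦ'⟩ := exists_frob_formallySmooth p (IsLift_map_natCast p k (A := C)) πC hsurj
    (isNilpotent_ker_of_natCast_sq p _ (natCast_sq_of_hom p k ((algebraMap B S).comp ι)) fun x hx =>
      (hspan ▸ hker) ▸ hx)
    Φ (fun b => by rw [hcomm, hcomm, h.red, map_pow])
  have hflat : ((algebraMap B S).comp ι).Flat :=
    RingHom.Flat.comp h.flat (RingHom.flat_algebraMap_iff.mpr (inferInstance : Module.Flat B S))
  refine ⟨S, inferInstance, (algebraMap B S).comp ι, πC, ΦS, ⟨⟨hflat, hsurj, ?_, ?_⟩, ?_, hΦ'⟩⟩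
  · rw [hker]
    show (RingHom.ker π).map _ = _
    rw [h.ker_eq, Ideal.map_map]
  · refine RingHom.ext fun w => ?_
    show πC (algebraMap B S (ι w)) = algebraMap k C (FrobAlg.res p k w)
    rw [hcomm, ← RingHom.comp_apply π ι, h.comm, RingHom.comp_apply, ← IsScalarTower.algebraMap_apply]
  · rw [← RingHom.comp_assoc, hΦ, RingHom.comp_assoc, h.semi, RingHom.comp_assoc]

end Groth.Agent.H27Frob
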