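import Groth.Agent.H27Frob.LiftCriterion
import Mathlib

/-! `W₂(A)` of an algebra in characteristic `p`; Frobenius lifts versus maps to `W₂(A)`. -/

set_option autoImplicit false
set_option linter.style.haveILetI false
universe u v

namespace Groth.Agent.H27Frob

variable (p : ℕ) [hp : Fact p.Prime]

theorem ghost_one {R : Type u} [CommRing R] (X : WittVector p R) :
    WittVector.ghostComponent 1 X = X.coeff 0 ^ p + (p : R) * X.coeff 1 := by
  simp [WittVector.ghostComponent_apply, wittPolynomial_one, add_comm]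

theorem truncate_two_eq {R : Type u} [CommRing R] {X Y : WittVector p R} (h0 : X.coeff 0 = Y.coeff 0)
    (h1 : X.coeff 1 = Y.coeff 1) : WittVector.truncate 2 X = WittVector.truncate 2 Y :=
  TruncatedWittVector.ext fun i => by
    rw [WittVector.coeff_truncate, WittVector.coeff_truncate]
    fin_cases i <;> assumption

theorem truncate_two_inj {R : Type u} [CommRing R] {X Y : WittVector p R}
    (h : WittVector.truncate 2 X = WittVector.truncate 2 Y) : X.coeff 0 = Y.coeff 0 ∧ X.coeff 1 = Y.coeff 1 := by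
  have h0 := congrArg (fun z => TruncatedWittVector.coeff (0 : Fin 2) z) h
  have h1 := congrArg (fun z => TruncatedWittVector.coeff (1 : Fin 2) z) h
  simp only [WittVector.coeff_truncate] at h0 h1
  exact ⟨h0, h1⟩

section Ker

variable {A : Type v} [CommRing A]

theorem exists_verschiebung {i : FrobAlg.W2 p A} (hi : FrobAlg.res p A i = 0) :
    ∃ Y, i = WittVector.truncate 2 (WittVector.verschiebung Y) ∧ Y.coeff 0 = i.coeff 1 := by
  obtain ⟨X, rfl⟩ := WittVector.truncate_surjective p 2 A i
  rw [FrobAlg.res_truncate] at hi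
  refine ⟨X.shift 1, truncate_two_eq p ?_ ?_, ?_⟩
  · rw [WittVector.verschiebung_coeff_zero, hi]
  · rw [WittVector.verschiebung_coeff_add_one, WittVector.shift_coeff]
  · rw [WittVector.coeff_truncate, WittVector.shift_coeff]
    rfl

theorem truncate_verschiebung_eq_zero {Y : WittVector p A} (h : Y.coeff 0 = 0) :
    WittVector.truncate 2 (WittVector.verschiebung Y) = 0 := by
  rw [← map_zero (WittVector.truncate (p := p) (R := A) 2)]
  exact truncate_two_eq p (by rw [WittVector.verschiebung_coeff_zero, WittVector.zero_coeff])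
    (by rw [WittVector.verschiebung_coeff_add_one, h, WittVector.zero_coeff])

theorem natCast_mul_ker (hpA : (p : A) = 0) {i : FrobAlg.W2 p A} (hi : FrobAlg.res p A i = 0) :
    (p : FrobAlg.W2 p A) * i = 0 := by
  obtain ⟨Y, rfl, -⟩ := exists_verschiebung p hi
  rw [← map_natCast (WittVector.truncate (p := p) (R := A) 2), ← map_mul, mul_comm,
    ← WittVector.verschiebung_mul_frobenius, map_natCast]
  refine truncate_verschiebung_eq_zero p ?_
  show WittVector.constantCoeff (Y * (p : WittVector p A)) = (0 : A)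
  rw [map_mul, map_natCast, hpA, mul_zero]

theorem ker_mul_ker (hpA : (p : A) = 0) {i j : FrobAlg.W2 p A} (hi : FrobAlg.res p A i = 0)
    (hj : FrobAlg.res p A j = 0) : i * j = 0 := by
  obtain ⟨Y, rfl, -⟩ := exists_verschiebung p hi
  obtain ⟨Z, rfl, -⟩ := exists_verschiebung p hj
  rw [← map_mul, ← WittVector.verschiebung_mul_frobenius, WittVector.frobenius_verschiebung]
  refine truncate_verschiebung_eq_zero p ?_
  show WittVector.constantCoeff (Y * (Z * (p : WittVector p A))) = (0 : A)
  rw [map_mul, map_mul, map_natCast, hpA, mul_zero, mul_zero]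

end Ker

variable (k : Type u) [Field k] [CharP k p] [PerfectRing k p]

theorem hom_ext {T : Type v} [CommRing T] {A : Type v} [CommRing A] (π : T →+* A)
    (hmul : ∀ i j, π i = 0 → π j = 0 → i * j = 0) (hp0 : ∀ i, π i = 0 → (p : T) * i = 0)
    {f g : FrobAlg.W2 p k →+* T} (h : π.comp f = π.comp g) : f = g := by
  have hker : ∀ x, π (f x - g x) = 0 := fun x => by
    rw [map_sub, sub_eq_zero]
    exact congr($h x)
  have hlin : ∀ (a i : T), π i = 0 → ∀ n : ℕ, (a + i) ^ (n + 1) = a ^ (n + 1) + ((n + 1 : ℕ) : T) * a ^ n * i := by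
    intro a i hi n
    induction n with
    | zero => simp
    | succ n ih =>
      rw [pow_succ, ih]
      push_cast
      linear_combination ((n : T) + 1) * a ^ n * hmul i i hi hi
  refine RingHom.ext fun x => ?_
  obtain ⟨y, hy⟩ := res_surjective p k ((_root_.frobeniusEquiv k p).symm (FrobAlg.res p k x))
  obtain ⟨z, hz⟩ := natCast_dvd_W2 p k (x := x - y ^ p) (by
    rw [map_sub, map_pow, hy, frobeniusEquiv_symm_pow_p, sub_self])
  have hx : x = y ^ p + (p : FrobAlg.W2 p k) * z := by rw [← hz]; ring
  have e1 : f y ^ p = g y ^ p := by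
    obtain ⟨n, hn⟩ : ∃ n, p = n + 1 := Nat.exists_eq_succ_of_ne_zero hp.out.ne_zero
    have hkk := hlin (g y) (f y - g y) (hker y) n
    rw [← hn, add_sub_cancel] at hkk
    rw [hkk, mul_assoc, mul_left_comm, hp0 _ (hker y), mul_zero, add_zero]
  have e2 := hp0 _ (hker z)
  rw [hx, map_add, map_add, map_mul, map_mul, map_pow, map_pow, map_natCast, map_natCast, e1]
  linear_combination e2

theorem exists_frobLift_iff {A : Type v} [CommRing A] [Algebra k A] {B : Type v} [CommRing B]
    (ι : FrobAlg.W2 p k →+* B) (π : B →+* A) (hB : FrobAlg.IsLift p k A B ι π) :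
    (∃ Φ : B →+* B, FrobAlg.IsFrobLift p k A B ι π Φ) ↔
      ∃ θ : B →+* FrobAlg.W2 p A,
        (FrobAlg.res p A).comp θ = π ∧ θ.comp ι = WittGrp.truncMap p 2 (algebraMap k A) := by
  classical
  have hpA : (p : A) = 0 := IsLift_map_natCast p k
  have hpB : (p : B) * p = 0 := natCast_sq_of_hom p k ι
  constructor
  · rintro ⟨Φ, hΦ⟩
    have hd : ∀ b, ∃ d, Φ b - b ^ p = (p : B) * d := fun b =>
      IsLift_ker_dvd p k hB (by rw [map_sub, hΦ.red, map_pow, sub_self])
    choose d hd using hd
    let X : B → WittVector p B := fun b => WittVector.mk p fun n => if n = 0 then b else d b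
    have hX0 : ∀ b, (X b).coeff 0 = b := fun b => rfl
    have hg : ∀ b, WittVector.ghostComponent 1 (X b) = Φ b := fun b => by
      rw [ghost_one, hX0, show (X b).coeff 1 = d b from rfl]
      linear_combination -hd b
    have hkey : ∀ b (Z : WittVector p B), Z.coeff 0 = b → WittVector.ghostComponent 1 Z = Φ b →
        WittVector.truncate 2 (WittVector.map π (X b)) = WittVector.truncate 2 (WittVector.map π Z) := by
      intro b Z h0 h1
      refine truncate_two_eq p (by rw [WittVector.map_coeff, WittVector.map_coeff, h0, hX0]) ?_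
      rw [WittVector.map_coeff, WittVector.map_coeff, ← sub_eq_zero, ← map_sub]
      refine IsLift_ann p k hB ?_
      rw [ghost_one, h0] at h1
      rw [show (X b).coeff 1 = d b from rfl]
      linear_combination -hd b - h1
    have h00 : ∀ Z : WittVector p B, Z.coeff 0 = WittVector.constantCoeff Z := fun Z => rfl
    let θ : B →+* FrobAlg.W2 p A :=
      { toFun := fun b => WittVector.truncate 2 (WittVector.map π (X b))
        map_one' := by
          refine (hkey 1 1 (WittVector.one_coeff_zero p B) (by rw [map_one, map_one])).trans ?_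
          rw [map_one, map_one]
        map_zero' := by
          refine (hkey 0 0 (WittVector.zero_coeff p B 0) (by rw [map_zero, map_zero])).trans ?_
          rw [map_zero, map_zero]
        map_mul' := fun a b => by
          refine (hkey (a * b) (X a * X b) (by rw [h00, map_mul, ← h00, ← h00, hX0, hX0])
            (by rw [map_mul, hg, hg, map_mul])).trans ?_
          rw [map_mul, map_mul]
        map_add' := fun a b => by
          refine (hkey (a + b) (X a + X b) (by rw [h00, map_add, ← h00, ← h00, hX0, hX0])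
            (by rw [map_add, hg, hg, map_add])).trans ?_
          rw [map_add, map_add] }
    have hres : (FrobAlg.res p A).comp θ = π := RingHom.ext fun b => by
      show FrobAlg.res p A (WittVector.truncate 2 (WittVector.map π (X b))) = π b
      rw [FrobAlg.res_truncate, WittVector.map_coeff, hX0]
    refine ⟨θ, hres, hom_ext p k (FrobAlg.res p A) (fun i j => ker_mul_ker p hpA) (fun i => natCast_mul_ker p hpA) ?_⟩
    rw [← RingHom.comp_assoc, hres, hB.comm]
    refine RingHom.ext fun w => ?_
    obtain ⟨W, rfl⟩ := WittVector.truncate_surjective p 2 k w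
    show algebraMap k A (FrobAlg.res p k _) = FrobAlg.res p A _
    rw [FrobAlg.res_truncate, WittGrp.truncMap_truncate, FrobAlg.res_truncate, WittVector.map_coeff]
  · rintro ⟨θ, hres, -⟩
    let α : WittVector p B →+* FrobAlg.W2 p A := (WittVector.truncate 2).comp (WittVector.map π)
    have hα : Function.Surjective α :=
      (WittVector.truncate_surjective p 2 A).comp (WittVector.map_surjective π hB.surj)
    let τ : FrobAlg.W2 p A →+* B := RingHom.liftOfSurjective α hα ⟨WittVector.ghostComponent 1, fun Z hZ => by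
      rw [RingHom.mem_ker] at hZ ⊢
      obtain ⟨h0, h1⟩ := truncate_two_inj p (X := WittVector.map π Z) (Y := 0) (hZ.trans (map_zero (WittVector.truncate (p := p) (R := A) 2)).symm)
      rw [WittVector.map_coeff, WittVector.zero_coeff] at h0 h1
      obtain ⟨c, hc⟩ := IsLift_ker_dvd p k hB h0
      obtain ⟨c', hc'⟩ := IsLift_ker_dvd p k hB h1
      obtain ⟨n, hn⟩ : ∃ n, p = n + 2 := ⟨p - 2, by have := hp.out.two_le; omega⟩
      rw [ghost_one, hc, hc', mul_pow, show (p : B) ^ p = 0 by
        rw [show (p : B) ^ p = (p : B) ^ (n + 2) from congrArg _ hn, pow_add, pow_two, hpB, mul_zero],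
        ← mul_assoc, hpB, zero_mul, zero_mul, add_zero]⟩
    have hπτ : ∀ z, π (τ z) = FrobAlg.res p A z ^ p := by
      intro z
      obtain ⟨Z, rfl⟩ := hα z
      show π (RingHom.liftOfSurjective α hα _ (α Z)) = _
      rw [RingHom.liftOfRightInverse_comp_apply]
      show π (WittVector.ghostComponent 1 Z) = FrobAlg.res p A (WittVector.truncate 2 (WittVector.map π Z)) ^ p
      rw [ghost_one, map_add, map_pow, map_mul, map_natCast, hpA, zero_mul, add_zero, FrobAlg.res_truncate,
        WittVector.map_coeff]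
    have hred : ∀ b, π (τ (θ b)) = π b ^ p := fun b => by
      rw [hπτ, ← RingHom.comp_apply (FrobAlg.res p A) θ, hres]
    refine ⟨τ.comp θ, ⟨hB, hom_ext p k π (fun i j hi hj => ?_) (fun i hi => ?_) (RingHom.ext fun w => ?_), hred⟩⟩
    · obtain ⟨c, rfl⟩ := IsLift_ker_dvd p k hB hi
      obtain ⟨c', rfl⟩ := IsLift_ker_dvd p k hB hj
      linear_combination (c * c') * hpB
    · obtain ⟨c, rfl⟩ := IsLift_ker_dvd p k hB hi
      rw [← mul_assoc, hpB, zero_mul]
    · show π (τ (θ (ι w))) = π (ι (FrobAlg.sigma p k w))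
      rw [hred, ← RingHom.comp_apply π ι, ← RingHom.comp_apply π ι, hB.comm, RingHom.comp_apply,
        RingHom.comp_apply, FrobAlg.res_apply, FrobAlg.res_apply, WittGrp.coeff_frob, map_pow]

section Split

variable {A : Type v} [CommRing A] [Algebra k A]

include k in
theorem natCast_mul_coeff (x : FrobAlg.W2 p A) :
    FrobAlg.res p A ((p : FrobAlg.W2 p A) * x) = 0 ∧
      ((p : FrobAlg.W2 p A) * x).coeff 1 = FrobAlg.res p A x ^ p := by
  haveI : Algebra k A := inferInstance
  have hpA : (p : A) = 0 := IsLift_map_natCast p k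
  refine ⟨by rw [map_mul, map_natCast, hpA, zero_mul], ?_⟩
  rcases subsingleton_or_nontrivial A with hA | hA
  · exact Subsingleton.elim _ _
  haveI : CharP A p := charP_of_injective_algebraMap (algebraMap k A).injective p
  obtain ⟨X, rfl⟩ := WittVector.truncate_surjective p 2 A x
  rw [← map_natCast (WittVector.truncate (p := p) (R := A) 2), ← map_mul, WittVector.coeff_truncate,
    FrobAlg.res_truncate, mul_comm]
  exact WittVector.mul_charP_coeff_succ X 0

include k in
theorem mem_splitIdeal_iff (φ : A →+ A) (hφ : ∀ a b : A, φ (a ^ p * b) = a * φ b) (x : FrobAlg.W2 p A) :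
    x ∈ FrobAlg.splitIdeal p A φ ↔ FrobAlg.res p A x = 0 ∧ φ (x.coeff 1) = 0 := by
  have hpA : (p : A) = 0 := IsLift_map_natCast p k
  refine ⟨fun hx => ?_, fun hx => Ideal.subset_span hx⟩
  induction hx using Submodule.span_induction with
  | mem y hy => exact hy
  | zero =>
    refine ⟨map_zero _, ?_⟩
    rw [← map_zero (WittVector.truncate (p := p) (R := A) 2), WittVector.coeff_truncate, WittVector.zero_coeff, map_zero]
  | add y z _ _ hy hz =>
    obtain ⟨Y, rfl, hY⟩ := exists_verschiebung p hy.1
    obtain ⟨Z, rfl, hZ⟩ := exists_verschiebung p hz.1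
    refine ⟨by rw [map_add, hy.1, hz.1, add_zero], ?_⟩
    rw [← map_add (WittVector.truncate 2), ← map_add WittVector.verschiebung, WittVector.coeff_truncate]
    show φ ((Y + Z).coeff 0) = 0
    rw [show (Y + Z).coeff 0 = Y.coeff 0 + Z.coeff 0 from map_add WittVector.constantCoeff Y Z, map_add, hY, hZ,
      hy.2, hz.2, add_zero]
  | smul c y _ hy =>
    obtain ⟨Y, rfl, hY⟩ := exists_verschiebung p hy.1
    obtain ⟨C, rfl⟩ := WittVector.truncate_surjective p 2 A c
    refine ⟨by rw [smul_eq_mul, map_mul, hy.1, mul_zero], ?_⟩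
    rw [smul_eq_mul, mul_comm, ← map_mul, ← WittVector.verschiebung_mul_frobenius, WittVector.coeff_truncate]
    show φ ((Y * WittVector.frobenius C).coeff 0) = 0
    have hF : (WittVector.frobenius C).coeff 0 = C.coeff 0 ^ p := by
      have h := WittVector.ghostComponent_frobenius 0 C
      rw [show WittVector.ghostComponent (0 + 1) C = WittVector.ghostComponent 1 C from rfl, ghost_one, hpA,
        zero_mul, add_zero] at h
      simpa [WittVector.ghostComponent_apply, wittPolynomial_zero] using h
    rw [show (Y * WittVector.frobenius C).coeff 0 = Y.coeff 0 * (WittVector.frobenius C).coeff 0 from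
      map_mul WittVector.constantCoeff Y (WittVector.frobenius C), hF, mul_comm, hφ, hY, hy.2, mul_zero]

include k in
theorem exists_natCast_mul (φ : A →+ A) (hφ : ∀ a b : A, φ (a ^ p * b) = a * φ b) (hφ1 : φ 1 = 1)
    {x : FrobAlg.W2 p A} (hx : FrobAlg.res p A x = 0) :
    ∃ c, x - (p : FrobAlg.W2 p A) * c ∈ FrobAlg.splitIdeal p A φ := by
  obtain ⟨c, hc⟩ : ∃ c, FrobAlg.res p A c = φ (x.coeff 1) := ⟨WittVector.truncate 2 (WittVector.teichmuller p _), by
    rw [FrobAlg.res_truncate, WittVector.teichmuller_coeff_zero]⟩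
  obtain ⟨h0, h1⟩ := natCast_mul_coeff p k c
  have hr : FrobAlg.res p A (x - (p : FrobAlg.W2 p A) * c) = 0 := by rw [map_sub, hx, h0, sub_zero]
  refine ⟨c, (mem_splitIdeal_iff p k φ hφ _).mpr ⟨hr, ?_⟩⟩
  obtain ⟨Y, hY, hY1⟩ := exists_verschiebung p hx
  obtain ⟨Z, hZ, hZ1⟩ := exists_verschiebung p h0
  have e : (x - (p : FrobAlg.W2 p A) * c).coeff 1 = x.coeff 1 - ((p : FrobAlg.W2 p A) * c).coeff 1 := by
    rw [← hY1, ← hZ1]
    conv_lhs => rw [hY, hZ, ← map_sub, ← map_sub]
    rw [WittVector.coeff_truncate]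
    exact map_sub WittVector.constantCoeff Y Z
  rw [e, h1, hc, map_sub, sub_eq_zero]
  conv_rhs => rw [← mul_one (φ (x.coeff 1) ^ p), hφ, hφ1, mul_one]

theorem isLift_split (φ : A →+ A) (hφ : ∀ a b : A, φ (a ^ p * b) = a * φ b) (hφ1 : φ 1 = 1) :
    FrobAlg.IsLift p k A (FrobAlg.W2 p A ⧸ FrobAlg.splitIdeal p A φ)
      ((Ideal.Quotient.mk (FrobAlg.splitIdeal p A φ)).comp (WittGrp.truncMap p 2 (algebraMap k A)))
      (FrobAlg.splitRes p A φ) := by
  set ι := (Ideal.Quotient.mk (FrobAlg.splitIdeal p A φ)).comp (WittGrp.truncMap p 2 (algebraMap k A))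
  have hres : ∀ x, FrobAlg.splitRes p A φ (Ideal.Quotient.mk _ x) = FrobAlg.res p A x := fun x =>
    Ideal.Quotient.lift_mk _ _ _
  have hkey : ∀ x : FrobAlg.W2 p A, FrobAlg.res p A x = 0 → ∃ c,
      Ideal.Quotient.mk (FrobAlg.splitIdeal p A φ) x = (p : FrobAlg.W2 p A ⧸ FrobAlg.splitIdeal p A φ) * c := by
    intro x hx
    obtain ⟨c, hc⟩ := exists_natCast_mul p k φ hφ hφ1 hx
    exact ⟨Ideal.Quotient.mk _ c, by rw [← map_natCast (Ideal.Quotient.mk _), ← map_mul, Ideal.Quotient.eq]; exact hc⟩
  refine ⟨?_, ?_, ?_, ?_⟩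
  · letI : Algebra (FrobAlg.W2 p k) (FrobAlg.W2 p A ⧸ FrobAlg.splitIdeal p A φ) := ι.toAlgebra
    show Module.Flat (FrobAlg.W2 p k) (FrobAlg.W2 p A ⧸ FrobAlg.splitIdeal p A φ)
    rw [flat_W2_iff]
    intro m hm
    obtain ⟨x, rfl⟩ := Ideal.Quotient.mk_surjective m
    rw [Algebra.smul_def, map_natCast, ← map_natCast (Ideal.Quotient.mk _), ← map_mul,
      Ideal.Quotient.eq_zero_iff_mem, mem_splitIdeal_iff p k φ hφ, (natCast_mul_coeff p k x).2] at hm
    have h0 : FrobAlg.res p A x = 0 := by
      have := hm.2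
      rwa [← mul_one (FrobAlg.res p A x ^ p), hφ, hφ1, mul_one] at this
    obtain ⟨c, hc⟩ := hkey x h0
    exact ⟨c, by rw [Algebra.smul_def, map_natCast]; exact hc⟩
  · intro a
    exact ⟨Ideal.Quotient.mk _ (WittVector.truncate 2 (WittVector.teichmuller p a)), by
      rw [hres, FrobAlg.res_truncate, WittVector.teichmuller_coeff_zero]⟩
  · rw [ker_res, Ideal.map_span, Set.image_singleton, map_natCast]
    refine le_antisymm (fun z hz => ?_) ?_
    · obtain ⟨x, rfl⟩ := Ideal.Quotient.mk_surjective z
      obtain ⟨c, hc⟩ := hkey x ((hres x).symm.trans hz)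
      exact Ideal.mem_span_singleton'.mpr ⟨c, by rw [hc, mul_comm]⟩
    · rw [Ideal.span_singleton_le_iff_mem, RingHom.mem_ker, map_natCast, IsLift_map_natCast p k]
  · refine RingHom.ext fun w => ?_
    obtain ⟨W, rfl⟩ := WittVector.truncate_surjective p 2 k w
    show FrobAlg.splitRes p A φ (Ideal.Quotient.mk _ _) = _
    rw [hres, WittGrp.truncMap_truncate, FrobAlg.res_truncate, WittVector.map_coeff, RingHom.comp_apply,
      FrobAlg.res_truncate]

end Split

end Groth.Agent.H27Frob
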