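import Groth.Agent.H27Perf.Ring
import Mathlib

/-!
# Maps of perfect closures
-/

set_option autoImplicit false
universe u

open Groth.Agent.H27Perf

namespace Groth.Agent.H27Frob

variable {p : ℕ} [hp : Fact p.Prime]

theorem pRad_of_isPRadical {A A' : Type u} [CommRing A] [CommRing A'] [CharP A p] (i : A →+* A')
    [IsPRadical i p] : PRad p i := by
  refine ⟨fun s => ?_, fun r hr => mem_pNilradical.mp (IsPRadical.ker_le i p hr)⟩
  obtain ⟨n, y, h⟩ := IsPRadical.pow_mem i p s
  exact ⟨n, y, h⟩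

theorem perfR_of_perfectRing (A : Type u) [CommRing A] [CharP A p] [PerfectRing A p] : PerfR p A :=
  ⟨CharP.cast_eq_zero A p, PerfectRing.bijective_frobenius⟩

variable {A B A' B' : Type u} [CommRing A] [CommRing B] [CommRing A'] [CommRing B']
  {φ : A →+* B} {i : A →+* A'} {j : B →+* B'} {φ' : A' →+* B'}

theorem comap_surjective (hi : PRad p i) (hj : PRad p j) (w : φ'.comp i = j.comp φ)
    (h : Function.Surjective (PrimeSpectrum.comap φ)) :
    Function.Surjective (PrimeSpectrum.comap φ') := by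
  intro q
  obtain ⟨b, hb⟩ := h (PrimeSpectrum.comap i q)
  obtain ⟨q', rfl⟩ := hj.isHomeomorph_comap.surjective b
  refine ⟨q', hi.isHomeomorph_comap.injective ?_⟩
  rw [← PrimeSpectrum.comap_comp_apply, w, PrimeSpectrum.comap_comp_apply, hb]

theorem faithfullyFlat_map (hi : PRad p i) (hj : PRad p j) (hp0 : (p : B) = 0) (hA' : PerfR p A')
    (hB' : PerfR p B') (w : φ'.comp i = j.comp φ) (h : φ.FaithfullyFlat) :
    φ'.FaithfullyFlat := by
  rw [RingHom.FaithfullyFlat.iff_flat_and_comap_surjective] at h ⊢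
  exact ⟨flat_of_pRad hi hj hp0 hA' hB' w h.1, comap_surjective hi hj w h.2⟩

theorem isIntegral_map_iff (hi : PRad p i) (hj : PRad p j) (w : φ'.comp i = j.comp φ) :
    φ.IsIntegral ↔ φ'.IsIntegral := by
  constructor
  · intro h
    have h1 : (φ'.comp i).IsIntegral := w ▸ RingHom.IsIntegral.trans φ j h hj.isIntegral
    exact RingHom.IsIntegral.tower_top i φ' h1
  · intro h b
    have h1 : (j.comp φ).IsIntegral := w ▸ RingHom.IsIntegral.trans i φ' hi.isIntegral h
    obtain ⟨P, hP, hPb⟩ := h1 (j b)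
    obtain ⟨n, hn⟩ := hj.ker (Polynomial.eval₂ φ b P) (by rw [Polynomial.hom_eval₂]; exact hPb)
    exact ⟨P ^ p ^ n, hP.pow _, by rw [Polynomial.eval₂_pow, hn]⟩

theorem flat_radical_span_singleton {A : Type u} [CommRing A] (hA : PerfR p A) (f : A) :
    Module.Flat A ((Ideal.span {f}).radical) := by
  rw [Module.Flat.iff_forall_isTrivialRelation]
  intro l a x hax
  have hmem : ∀ i, ∃ n, ∀ m, n ≤ m → f ∣ (x i : A) ^ p ^ m := fun i => by
    obtain ⟨k, hk⟩ := (x i).2
    rw [Ideal.mem_span_singleton] at hk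
    obtain ⟨n, hn⟩ : ∃ n, k ≤ p ^ n := ⟨k, (Nat.lt_pow_self hp.out.one_lt).le⟩
    exact ⟨n, fun m hm =>
      hk.trans (pow_dvd_pow _ (hn.trans (Nat.pow_le_pow_right hp.out.pos hm)))⟩
  choose n hn using hmem
  obtain ⟨N, hN⟩ : ∃ N, ∀ i, n i ≤ N :=
    ⟨Finset.univ.sup n, fun i => Finset.le_sup (Finset.mem_univ i)⟩
  obtain ⟨g, hg⟩ := hA.exists_root f (N + 1)
  have hgmem : g ∈ (Ideal.span {f}).radical :=
    ⟨p ^ (N + 1), by rw [hg]; exact Ideal.mem_span_singleton_self f⟩
  have hy : ∀ i, ∃ y : A, (x i : A) = g ^ p * y := fun i => by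
    obtain ⟨z, hz⟩ := hn i N (hN i)
    obtain ⟨y, hy⟩ := hA.exists_root z N
    refine ⟨y, hA.ext_of_pow (n := N) ?_⟩
    rw [hz, mul_pow, hy, ← pow_mul, ← pow_succ', hg]
  choose y hy using hy
  refine ⟨1, fun i _ => g ^ (p - 1) * y i, fun _ => ⟨g, hgmem⟩, fun i => ?_, fun _ => ?_⟩
  · apply Subtype.ext
    rw [Finset.univ_unique, Finset.sum_singleton, Submodule.coe_smul, smul_eq_mul, hy i,
      mul_right_comm, ← pow_succ, Nat.sub_add_cancel hp.out.pos]
  · have h0 : g ^ p * ∑ i, a i * y i = 0 := by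
      have h1 := congrArg Subtype.val hax
      rw [AddSubmonoidClass.coe_finsetSum, ZeroMemClass.coe_zero] at h1
      rw [← h1, Finset.mul_sum]
      exact Finset.sum_congr rfl fun i _ => by
        rw [Submodule.coe_smul, smul_eq_mul, hy i]; ring
    have h2 : g * ∑ i, a i * y i = 0 := hA.eq_zero (n := 1) (by
      rw [pow_one, mul_pow]
      calc g ^ p * (∑ i, a i * y i) ^ p
          = g ^ p * (∑ i, a i * y i) * (∑ i, a i * y i) ^ (p - 1) := by
            rw [mul_assoc, ← pow_succ', Nat.sub_add_cancel hp.out.pos]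
        _ = 0 := by rw [h0, zero_mul])
    calc ∑ i, a i * (g ^ (p - 1) * y i) = g ^ (p - 2) * (g * ∑ i, a i * y i) := by
          rw [← mul_assoc, ← pow_succ, Finset.mul_sum]
          refine Finset.sum_congr rfl fun i _ => ?_
          rw [show p - 2 + 1 = p - 1 by have := hp.out.two_le; omega]
          ring
      _ = 0 := by rw [h2, mul_zero]

end Groth.Agent.H27Frob
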