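import Groth.Prelude.Def_FrobAlg
import Groth.Agent.H27Perf.Ring
import Mathlib

/-!
# The relative Frobenius of an algebra
-/

set_option autoImplicit false
universe u

open TensorProduct FrobAlg

namespace Groth.Agent.H27Frob

variable (p : ℕ) [hp : Fact p.Prime] (A : Type u) [CommRing A] [CharP A p]
  (B : Type u) [CommRing B] [Algebra A B] [CharP B p]

theorem relFrob_tmul (b : B) (a : A) :
    relFrob p A B (b ⊗ₜ[A] toTwist p A a) = b ^ p * algebraMap A B a := by
  change (toTarget p A B).symm
    (Algebra.TensorProduct.lift (frobHom p A B) (inclHom p A B) (fun _ _ => Commute.all _ _)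
      (b ⊗ₜ[A] toTwist p A a)) = _
  rw [Algebra.TensorProduct.lift_tmul, map_mul]
  rfl

omit [CharP B p] in
theorem natCast_baseChange : (p : BaseChange p A B) = 0 := by
  rw [← map_natCast (algebraMap A (BaseChange p A B)), CharP.cast_eq_zero A p, map_zero]

omit [CharP B p] in
theorem exists_eq_tmul (y : Twist p A) : ∃ a, toTwist p A a = y := ⟨(toTwist p A).symm y, rfl⟩

/-- `x ^ p = relFrob x ⊗ 1`. -/
theorem pow_eq_relFrob_tmul_one (x : BaseChange p A B) :
    x ^ p = relFrob p A B x ⊗ₜ[A] (1 : Twist p A) := by
  induction x using TensorProduct.induction_on with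
  | zero => rw [zero_pow hp.out.ne_zero, map_zero, TensorProduct.zero_tmul]
  | tmul b y =>
    obtain ⟨a, rfl⟩ := exists_eq_tmul p A y
    rw [Algebra.TensorProduct.tmul_pow, relFrob_tmul, ← map_pow (toTwist p A),
      ← algebraMap_twist p A a, Algebra.algebraMap_eq_smul_one, TensorProduct.tmul_smul,
      TensorProduct.smul_tmul', Algebra.smul_def, mul_comm]
  | add x y hx hy =>
    have h := Groth.Agent.H27Perf.add_pow' (natCast_baseChange p A B) x y 1
    rw [pow_one] at h
    rw [h, hx, hy, map_add, TensorProduct.add_tmul]

theorem relFrob_isIntegral : (relFrob p A B).IsIntegral := fun b => by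
  algebraize [relFrob p A B]
  refine IsIntegral.of_pow hp.out.pos (n := p) ?_
  have : b ^ p = algebraMap (BaseChange p A B) B (b ⊗ₜ[A] toTwist p A 1) := by
    change b ^ p = relFrob p A B (b ⊗ₜ[A] toTwist p A 1)
    rw [relFrob_tmul, map_one, mul_one]
  rw [this]
  exact isIntegral_algebraMap

theorem pow_eq_zero_of_relFrob_eq_zero (x : BaseChange p A B) (h : relFrob p A B x = 0) :
    x ^ p = 0 := by
  rw [pow_eq_relFrob_tmul_one, h, TensorProduct.zero_tmul]

theorem D_relFrob (x : BaseChange p A B) : KaehlerDifferential.D A B (relFrob p A B x) = 0 := by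
  induction x using TensorProduct.induction_on with
  | zero => rw [map_zero, map_zero]
  | tmul b y =>
    obtain ⟨a, rfl⟩ := exists_eq_tmul p A y
    rw [relFrob_tmul, Derivation.leibniz, Derivation.map_algebraMap, smul_zero, zero_add,
      Derivation.leibniz_pow, ← Nat.cast_smul_eq_nsmul B, CharP.cast_eq_zero, zero_smul, smul_zero]
  | add x y hx hy => rw [map_add, map_add, hx, hy, add_zero]

theorem derivation_eq_zero {R S M : Type*} [CommRing R] [CommRing S] [Algebra R S] [AddCommGroup M]
    [Module R M] [Module S M] [IsScalarTower R S M] [Subsingleton (Ω[S⁄R])]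
    (d : Derivation R S M) (s : S) : d s = 0 := by
  rw [← d.liftKaehlerDifferential_comp_D, Subsingleton.elim (KaehlerDifferential.D R S s) 0,
    map_zero]

theorem formallyUnramified_iff_relFrob :
    Algebra.FormallyUnramified A B ↔
      @Algebra.FormallyUnramified (BaseChange p A B) B _ _ (relFrob p A B).toAlgebra := by
  algebraize [relFrob p A B]
  constructor
  · intro h
    let d : Derivation A B (Ω[B⁄BaseChange p A B]) :=
      { toFun := KaehlerDifferential.D (BaseChange p A B) B
        map_add' := map_add _
        map_smul' := fun a b => by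
          have ha : algebraMap A B a = algebraMap (BaseChange p A B) B (1 ⊗ₜ[A] toTwist p A a) := by
            change _ = relFrob p A B _
            rw [relFrob_tmul, one_pow, one_mul]
          rw [RingHom.id_apply, Algebra.smul_def, Derivation.leibniz, ha, Derivation.map_algebraMap,
            smul_zero, add_zero, ← ha, algebraMap_smul]
        map_one_eq_zero' := Derivation.map_one_eq_zero _
        leibniz' := fun a b => (KaehlerDifferential.D (BaseChange p A B) B).leibniz a b }
    refine ⟨subsingleton_of_forall_eq 0 fun ω => ?_⟩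
    have hω : ω ∈ (⊤ : Submodule B (Ω[B⁄BaseChange p A B])) := trivial
    rw [← KaehlerDifferential.span_range_derivation] at hω
    induction hω using Submodule.span_induction with
    | mem x hx =>
      obtain ⟨b, rfl⟩ := hx
      change d b = 0
      rw [← d.liftKaehlerDifferential_comp_D, Subsingleton.elim (KaehlerDifferential.D A B b) 0,
        map_zero]
    | zero => rfl
    | add x y _ _ hx hy => rw [hx, hy, add_zero]
    | smul c x _ hx => rw [hx, smul_zero]
  · intro h
    letI : Module (BaseChange p A B) (Ω[B⁄A]) := Module.compHom _ (relFrob p A B)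
    haveI : IsScalarTower (BaseChange p A B) B (Ω[B⁄A]) := ⟨fun x b ω => by
      change (x • b) • ω = relFrob p A B x • b • ω
      rw [Algebra.smul_def, mul_smul]
      rfl⟩
    let d : Derivation (BaseChange p A B) B (Ω[B⁄A]) :=
      { toFun := KaehlerDifferential.D A B
        map_add' := map_add _
        map_smul' := fun x b => by
          change KaehlerDifferential.D A B (x • b) = relFrob p A B x • KaehlerDifferential.D A B b
          rw [Algebra.smul_def]
          change KaehlerDifferential.D A B (relFrob p A B x * b) = _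
          rw [Derivation.leibniz, D_relFrob, smul_zero, add_zero]
        map_one_eq_zero' := Derivation.map_one_eq_zero _
        leibniz' := fun a b => (KaehlerDifferential.D A B).leibniz a b }
    refine ⟨subsingleton_of_forall_eq 0 fun ω => ?_⟩
    have hω : ω ∈ (⊤ : Submodule B (Ω[B⁄A])) := trivial
    rw [← KaehlerDifferential.span_range_derivation] at hω
    induction hω using Submodule.span_induction with
    | mem x hx =>
      obtain ⟨b, rfl⟩ := hx
      exact @derivation_eq_zero (BaseChange p A B) B (Ω[B⁄A]) _ _ _ _ _ _ ‹_› _ d b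
    | zero => rfl
    | add x y _ _ hx hy => rw [hx, hy, add_zero]
    | smul c x _ hx => rw [hx, smul_zero]

theorem sq_eq_zero_pow_eq {C : Type u} [CommRing C] (h : (p : C) = 0) {I : Ideal C} (hI : I ^ 2 = ⊥)
    {x y : C} (hxy : x - y ∈ I) : x ^ p = y ^ p := by
  have h2 : (x - y) ^ 2 = 0 := by
    have := Ideal.pow_mem_pow hxy 2
    rwa [hI] at this
  have h3 : (x - y) ^ p ^ 1 = 0 := by
    rw [pow_one]
    exact pow_eq_zero_of_le hp.out.two_le h2
  rw [Groth.Agent.H27Perf.sub_pow' h, pow_one, sub_eq_zero] at h3
  exact h3

omit [CharP B p] in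
/-- Maps out of the Frobenius twist. -/
theorem exists_baseChange_hom {C : Type u} [CommRing C] [Algebra A C] (φ : B →+* C)
    (hφ : ∀ a, φ (algebraMap A B a) = algebraMap A C a ^ p) :
    ∃ g : BaseChange p A B →+* C, ∀ b a, g (b ⊗ₜ[A] toTwist p A a) = φ b * algebraMap A C a := by
  let r : A →+* C := algebraMap A C
  let C' := C
  letI : CommRing C' := inferInstanceAs (CommRing C)
  letI : Algebra A C' := RingHom.toAlgebra (r.comp (frobenius A p) : A →+* C')
  let φ₁ : B →ₐ[A] C' :=
    { toRingHom := (φ : B →+* C')
      commutes' := fun a => (hφ a).trans (map_pow r a p).symm }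
  let ψ₁ : Twist p A →ₐ[A] C' :=
    { toRingHom := (r.comp ((toTwist p A).symm : Twist p A →+* A) : Twist p A →+* C')
      commutes' := fun a => rfl }
  refine ⟨((Algebra.TensorProduct.lift φ₁ ψ₁ (fun _ _ => Commute.all _ _)).toRingHom :
    BaseChange p A B →+* C'), fun b a => ?_⟩
  change Algebra.TensorProduct.lift φ₁ ψ₁ (fun _ _ => Commute.all _ _) (b ⊗ₜ[A] toTwist p A a) = _
  rw [Algebra.TensorProduct.lift_tmul]
  rfl

theorem formallyEtale_of_bijective (h : Function.Bijective (relFrob p A B)) :
    Algebra.FormallyEtale A B := by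
  have hU : Algebra.FormallyUnramified A B := by
    rw [formallyUnramified_iff_relFrob p A B]
    algebraize [relFrob p A B]
    exact Algebra.FormallyUnramified.of_surjective (Algebra.ofId (BaseChange p A B) B) h.2
  have hS : Algebra.FormallySmooth A B := by
    refine Algebra.FormallySmooth.of_comp_surjective fun C _ _ I hI f => ?_
    have hC : (p : C) = 0 := by
      rw [← map_natCast (algebraMap A C), CharP.cast_eq_zero A p, map_zero]
    have hker : ∀ x ∈ I, FrobSch.powHom p C hC x = 0 := fun x hx => by
      rw [FrobSch.powHom_apply, sq_eq_zero_pow_eq p hC hI (y := 0) (by simpa using hx),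
        zero_pow hp.out.ne_zero]
    let q : C ⧸ I →+* C := Ideal.Quotient.lift I (FrobSch.powHom p C hC) hker
    obtain ⟨g, hg⟩ := exists_baseChange_hom p A B (q.comp f.toRingHom) (fun a => by
      change q (f (algebraMap A B a)) = _
      rw [f.commutes]
      rfl)
    let e := RingEquiv.ofBijective _ h
    have he : ∀ a : A, e.symm (algebraMap A B a) = (1 : B) ⊗ₜ[A] toTwist p A a := fun a => by
      rw [RingEquiv.symm_apply_eq, RingEquiv.ofBijective_apply, relFrob_tmul, one_pow, one_mul]
    refine ⟨⟨g.comp (e.symm : B →+* BaseChange p A B), fun a => ?_⟩, AlgHom.ext fun b => ?_⟩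
    · change g (e.symm (algebraMap A B a)) = _
      rw [he, hg, map_one, one_mul]
    · obtain ⟨x, rfl⟩ := e.surjective b
      change Ideal.Quotient.mk I (g (e.symm (e x))) = f (e x)
      rw [e.symm_apply_apply, RingEquiv.ofBijective_apply]
      induction x using TensorProduct.induction_on with
      | zero => simp
      | tmul b y =>
        obtain ⟨a, rfl⟩ := exists_eq_tmul p A y
        rw [hg, relFrob_tmul, map_mul, map_mul, map_pow, f.commutes]
        obtain ⟨c, hc⟩ := Ideal.Quotient.mk_surjective (f b)
        change Ideal.Quotient.mk I (q (f b)) * _ = _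
        rw [← hc, Ideal.Quotient.lift_mk, FrobSch.powHom_apply, map_pow]
        rfl
      | add x y hx hy => simp only [map_add, hx, hy]
  exact Algebra.FormallyEtale.of_formallyUnramified_and_formallySmooth

end Groth.Agent.H27Frob
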