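import Groth.Prelude.Def_FrobAlg
import Groth.Agent.H27Frob.RelFrob
import Mathlib

/-! The completion of an F-finite Noetherian ring is relatively perfect. -/

set_option autoImplicit false
set_option linter.style.haveILetI false
universe u

open TensorProduct

namespace Groth.Agent.H27FrobCompl

open FrobAlg

variable (p : ℕ) [hp : Fact p.Prime] (A : Type u) [CommRing A] [CharP A p] (I : Ideal A)

theorem mem_smul_top (n : ℕ) (a : A) : a ∈ (I ^ n • ⊤ : Submodule A A) ↔ a ∈ I ^ n := by
  rw [Ideal.smul_eq_mul, Ideal.mul_top]

theorem symm_mem (n : ℕ) {m : Twist p A} (hm : m ∈ (I ^ n • ⊤ : Submodule A (Twist p A))) :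
    (toTwist p A).symm m ∈ I ^ n := by
  refine Submodule.smul_induction_on hm (fun r hr y _ => ?_) (fun a b ha hb => ?_)
  · rw [Algebra.smul_def, map_mul, algebraMap_twist, RingEquiv.symm_apply_apply]
    exact Ideal.mul_mem_right _ _ (Ideal.pow_mem_of_mem _ hr p hp.out.pos)
  · rw [map_add]
    exact add_mem ha hb

theorem exists_pow_le [IsNoetherianRing A] (n : ℕ) :
    ∃ K, n ≤ K ∧ ∀ a ∈ I ^ K, toTwist p A a ∈ (I ^ n • ⊤ : Submodule A (Twist p A)) := by
  let J : Ideal A := Ideal.span ((fun a => a ^ p) '' (I ^ n : Ideal A))
  have hrad : I ≤ J.radical := fun a ha => ⟨n * p, by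
    rw [pow_mul]
    exact Ideal.subset_span ⟨a ^ n, Ideal.pow_mem_pow ha n, rfl⟩⟩
  obtain ⟨k, hk⟩ := Ideal.exists_pow_le_of_le_radical_of_fg hrad (IsNoetherian.noetherian I)
  let J' : Ideal A :=
    { carrier := {a | toTwist p A a ∈ (I ^ n • ⊤ : Submodule A (Twist p A))}
      zero_mem' := by
        show toTwist p A 0 ∈ (I ^ n • ⊤ : Submodule A (Twist p A))
        rw [map_zero]
        exact zero_mem _
      add_mem' := fun {a b} ha hb => by
        show toTwist p A (a + b) ∈ (I ^ n • ⊤ : Submodule A (Twist p A))
        rw [map_add]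
        exact add_mem ha hb
      smul_mem' := fun c a ha => by
        show toTwist p A (c * a) ∈ (I ^ n • ⊤ : Submodule A (Twist p A))
        have ha : toTwist p A a ∈ (I ^ n • ⊤ : Submodule A (Twist p A)) := ha
        rw [map_mul]
        refine Submodule.smul_induction_on ha (fun r hr y _ => ?_) (fun x y hx hy => ?_)
        · rw [mul_smul_comm]
          exact Submodule.smul_mem_smul hr trivial
        · rw [mul_add]
          exact add_mem hx hy }
  have hJ : J ≤ J' := Ideal.span_le.mpr (by
    rintro _ ⟨b, hb, rfl⟩
    show toTwist p A (b ^ p) ∈ (I ^ n • ⊤ : Submodule A (Twist p A))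
    have := Submodule.smul_mem_smul (N := (⊤ : Submodule A (Twist p A))) hb (Submodule.mem_top (x := (1 : Twist p A)))
    rwa [Algebra.smul_def b (1 : Twist p A), algebraMap_twist, mul_one] at this)
  exact ⟨n + k, Nat.le_add_right n k, fun a ha => hJ (hk (Ideal.pow_le_pow_right (Nat.le_add_left k n) ha))⟩

/-- Level-wise forgetting of the twist. -/
noncomputable def untwist (x : AdicCompletion I (Twist p A)) : AdicCompletion I A :=
  ⟨fun n => Submodule.Quotient.mk ((toTwist p A).symm (Function.surjInv (Submodule.mkQ_surjective _) (x.val n))), by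
    intro m n hmn
    let r : ℕ → Twist p A := fun n => Function.surjInv (Submodule.mkQ_surjective _) (x.val n)
    have hr : ∀ n, Submodule.Quotient.mk (r n) = x.val n := fun n =>
      Function.surjInv_eq (Submodule.mkQ_surjective _) _
    show AdicCompletion.transitionMap I A hmn (Submodule.Quotient.mk ((toTwist p A).symm (r n))) =
      Submodule.Quotient.mk ((toTwist p A).symm (r m))
    show Submodule.Quotient.mk ((toTwist p A).symm (r n)) = Submodule.Quotient.mk ((toTwist p A).symm (r m))
    rw [Submodule.Quotient.eq, mem_smul_top, ← map_sub]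
    refine symm_mem p A I m ?_
    rw [← Submodule.Quotient.eq, hr m, ← AdicCompletion.transitionMap_comp_eval_apply I (Twist p A) hmn x, ← hr n]
    rfl⟩

theorem untwist_val (x : AdicCompletion I (Twist p A)) (n : ℕ) (m : Twist p A)
    (hm : Submodule.Quotient.mk m = x.val n) :
    (untwist p A I x).val n = Submodule.Quotient.mk ((toTwist p A).symm m) := by
  show Submodule.Quotient.mk ((toTwist p A).symm (Function.surjInv (Submodule.mkQ_surjective _) (x.val n))) = _
  rw [Submodule.Quotient.eq, mem_smul_top, ← map_sub]
  refine symm_mem p A I n ?_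
  rw [← Submodule.Quotient.eq, hm]
  exact Function.surjInv_eq (Submodule.mkQ_surjective _) _

theorem untwist_bijective [IsNoetherianRing A] : Function.Bijective (untwist p A I) := by
  choose K hK hKmem using exists_pow_le p A I
  refine ⟨fun x y hxy => AdicCompletion.ext fun n => ?_, fun z => ?_⟩
  · obtain ⟨a, ha⟩ := Submodule.Quotient.mk_surjective _ (x.val (K n))
    obtain ⟨b, hb⟩ := Submodule.Quotient.mk_surjective _ (y.val (K n))
    have h := congrArg (fun w => w.val (K n)) hxy
    simp only [untwist_val p A I x (K n) a ha, untwist_val p A I y (K n) b hb] at h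
    rw [Submodule.Quotient.eq, mem_smul_top, ← map_sub] at h
    rw [← AdicCompletion.transitionMap_comp_eval_apply I (Twist p A) (hK n) x,
      ← AdicCompletion.transitionMap_comp_eval_apply I (Twist p A) (hK n) y, ← ha, ← hb]
    show Submodule.Quotient.mk a = Submodule.Quotient.mk b
    rw [Submodule.Quotient.eq]
    have := hKmem n _ h
    rwa [RingEquiv.apply_symm_apply] at this
  · choose r hr using fun n => Submodule.Quotient.mk_surjective _ (z.val n)
    have hcomp : ∀ {a b : ℕ}, a ≤ b → r b - r a ∈ I ^ a := by
      intro a b hab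
      rw [← mem_smul_top, ← Submodule.Quotient.eq, hr a, ← AdicCompletion.transitionMap_comp_eval_apply I A hab z, ← hr b]
      rfl
    refine ⟨⟨fun n => Submodule.Quotient.mk (toTwist p A (r (K n))), ?_⟩, AdicCompletion.ext fun n => ?_⟩
    · intro m n hmn
      show Submodule.Quotient.mk (toTwist p A (r (K n))) = Submodule.Quotient.mk (toTwist p A (r (K m)))
      rw [Submodule.Quotient.eq]
      set M := max (K n) (K m)
      have h1 := hKmem n _ (hcomp (le_max_left (K n) (K m)))
      have h2 := hKmem m _ (hcomp (le_max_right (K n) (K m)))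
      have h1' := Submodule.smul_mono (Ideal.pow_le_pow_right hmn) le_rfl h1
      have h3 := sub_mem h2 h1'
      rw [map_sub, map_sub] at h3
      simpa using h3
    · rw [untwist_val p A I _ n (toTwist p A (r (K n))) rfl, RingEquiv.symm_apply_apply, ← hr n,
        Submodule.Quotient.eq, mem_smul_top]
      exact hcomp (hK n)

theorem relFrob_bijective [IsNoetherianRing A] (hF : (frobenius A p).Finite)
    [CharP (AdicCompletion I A) p] : Function.Bijective (relFrob p A (AdicCompletion I A)) := by
  haveI : Module.Finite A (Twist p A) := hF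
  have hb := AdicCompletion.ofTensorProduct_bijective_of_finite_of_isNoetherian I (Twist p A)
  have key : ∀ z, relFrob p A (AdicCompletion I A) z =
      untwist p A I (AdicCompletion.ofTensorProduct I (Twist p A) z) := by
    intro z
    induction z using TensorProduct.induction_on with
    | zero =>
      rw [map_zero, map_zero]
      refine AdicCompletion.ext fun n => ?_
      rw [untwist_val p A I _ n 0 (by rw [AdicCompletion.val_zero_apply, Submodule.Quotient.mk_zero]), map_zero,
        Submodule.Quotient.mk_zero, AdicCompletion.val_zero_apply]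
    | tmul b y =>
      obtain ⟨a, rfl⟩ := Groth.Agent.H27Frob.exists_eq_tmul p A y
      refine AdicCompletion.ext fun n => ?_
      obtain ⟨c, hc⟩ := Submodule.Quotient.mk_surjective _ (b.val n)
      rw [Groth.Agent.H27Frob.relFrob_tmul, AdicCompletion.ofTensorProduct_tmul,
        untwist_val p A I _ n (c • toTwist p A a) (by
          rw [AdicCompletion.smul_eval, ← hc, AdicCompletion.of_apply]
          rfl),
        Algebra.smul_def c (toTwist p A a), map_mul, algebraMap_twist, RingEquiv.symm_apply_apply, RingEquiv.symm_apply_apply]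
      show (b ^ p * algebraMap A (AdicCompletion I A) a).val n = _
      rw [AdicCompletion.val_mul]
      show (b.val n) ^ p * _ = _
      rw [← hc]
      rfl
    | add x y hx hy =>
      rw [map_add, map_add, hx, hy]
      refine AdicCompletion.ext fun n => ?_
      obtain ⟨a, ha⟩ := Submodule.Quotient.mk_surjective _ ((AdicCompletion.ofTensorProduct I (Twist p A) x).val n)
      obtain ⟨c, hc⟩ := Submodule.Quotient.mk_surjective _ ((AdicCompletion.ofTensorProduct I (Twist p A) y).val n)
      rw [AdicCompletion.val_add_apply, untwist_val p A I _ n a ha, untwist_val p A I _ n c hc,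
        untwist_val p A I _ n (a + c) (by rw [AdicCompletion.val_add_apply, Submodule.Quotient.mk_add, ha, hc]),
        map_add, Submodule.Quotient.mk_add]
  have : (relFrob p A (AdicCompletion I A) : _ → _) = untwist p A I ∘ AdicCompletion.ofTensorProduct I (Twist p A) :=
    funext key
  rw [this]
  exact (untwist_bijective p A I).comp hb

end Groth.Agent.H27FrobCompl
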