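import Groth.Agent.H27Frob.RelFrob
import Groth.Agent.H27Frob.Closure

/-!
# The relative Frobenius of an étale algebra is bijective
-/

set_option autoImplicit false
universe u

open TensorProduct FrobAlg

namespace Groth.Agent.H27Frob

open Groth.Agent.H27Perf

variable {p : ℕ} [hp : Fact p.Prime]

theorem bijective_algebraMap_of_etale_of_pRad (R S : Type u) [CommRing R] [CommRing S] [Algebra R S]
    [Algebra.Etale R S] (h0 : (p : R) = 0) (h : PRad p (algebraMap R S)) :
    Function.Bijective (algebraMap R S) := by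
  have hff : Module.FaithfullyFlat R S := by
    rw [← RingHom.faithfullyFlat_algebraMap_iff, RingHom.FaithfullyFlat.iff_flat_and_comap_surjective]
    exact ⟨RingHom.flat_algebraMap_iff.mpr inferInstance, h.isHomeomorph_comap.surjective⟩
  refine ⟨FaithfulSMul.algebraMap_injective R S, ?_⟩
  have hT : (p : S ⊗[R] S) = 0 := natCast_map (p := p) (algebraMap R (S ⊗[R] S)) h0
  -- the kernel of multiplication is locally nilpotent and idempotent
  have hnil : KaehlerDifferential.ideal R S ≤ nilradical (S ⊗[R] S) := by
    rw [← KaehlerDifferential.span_range_eq_ideal, Ideal.span_le]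
    rintro _ ⟨s, rfl⟩
    obtain ⟨n, r, hr⟩ := h.pow_mem s
    refine ⟨p ^ n, ?_⟩
    rw [sub_pow' hT, Algebra.TensorProduct.tmul_pow, Algebra.TensorProduct.tmul_pow, one_pow, ← hr,
      Algebra.algebraMap_eq_smul_one, TensorProduct.tmul_smul, TensorProduct.smul_tmul', sub_self]
    exact Submodule.zero_mem _
  have hbot : KaehlerDifferential.ideal R S = ⊥ := by
    obtain ⟨e, he, hI⟩ := (Ideal.isIdempotentElem_iff_of_fg _ (KaehlerDifferential.ideal_fg R S)).mp
      ((Ideal.cotangent_subsingleton_iff _).mp (inferInstanceAs (Subsingleton (Ω[S⁄R]))))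
    obtain ⟨k, hk⟩ := hnil (hI ▸ Submodule.mem_span_singleton_self e : e ∈ KaehlerDifferential.ideal R S)
    have he0 : e = 0 := he.eq_zero_of_isNilpotent ⟨k, hk⟩
    rw [hI, he0, Submodule.span_zero_singleton]
  have key : ∀ s t : S, s ⊗ₜ[R] t = (s * t) ⊗ₜ[R] (1 : S) := fun s t => by
    have h1 : s ⊗ₜ[R] t - (s * t) ⊗ₜ[R] (1 : S) ∈ KaehlerDifferential.ideal R S := by
      simp [KaehlerDifferential.ideal, RingHom.mem_ker]
    rwa [hbot, Submodule.mem_bot, sub_eq_zero] at h1
  refine (Module.FaithfullyFlat.lTensor_surjective_iff_surjective R S (Algebra.linearMap R S)).mp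
    fun x => ?_
  induction x using TensorProduct.induction_on with
  | zero => exact ⟨0, map_zero _⟩
  | tmul s t => exact ⟨(s * t) ⊗ₜ[R] (1 : R), by rw [key]; simp⟩
  | add x y hx hy =>
    obtain ⟨a, rfl⟩ := hx
    obtain ⟨b, rfl⟩ := hy
    exact ⟨a + b, map_add _ _ _⟩

variable (p) (A : Type u) [CommRing A] [CharP A p] (B : Type u) [CommRing B] [Algebra A B] [CharP B p]

theorem pRad_relFrob : PRad p (relFrob p A B) := by
  refine ⟨fun b => ⟨1, b ⊗ₜ[A] toTwist p A 1, ?_⟩, fun x hx => ⟨1, ?_⟩⟩
  · rw [relFrob_tmul, map_one, mul_one, pow_one]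
  · rw [pow_one]
    exact pow_eq_zero_of_relFrob_eq_zero p A B x hx

omit hp in
theorem etale_of_comp {R S T : Type u} [CommRing R] [CommRing S] [CommRing T] (f : R →+* S)
    (g : S →+* T) (hf : f.Etale) (hgf : (g.comp f).Etale) : g.Etale := by
  algebraize [f, g, g.comp f]
  exact Algebra.Etale.of_restrictScalars R S T

theorem bijective_relFrob_of_etale [Algebra.Etale A B] : Function.Bijective (relFrob p A B) := by
  have h1 : Algebra.Etale (Twist p A) (BaseChange p A B) :=
    Algebra.Etale.of_equiv (Algebra.TensorProduct.commRight A (Twist p A) B)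
  have h2 : ((relFrob p A B).comp (algebraMap (Twist p A) (BaseChange p A B))).Etale := by
    have e : (relFrob p A B).comp (algebraMap (Twist p A) (BaseChange p A B)) =
        (algebraMap A B).comp ((toTwist p A).symm : Twist p A →+* A) := RingHom.ext fun y => by
      obtain ⟨a, rfl⟩ := exists_eq_tmul p A y
      change relFrob p A B (1 ⊗ₜ[A] toTwist p A a) = algebraMap A B a
      rw [relFrob_tmul, one_pow, one_mul]
    rw [e]
    exact RingHom.Etale.respectsIso.2 (algebraMap A B) (toTwist p A).symm
      (RingHom.etale_algebraMap.mpr inferInstance)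
  have h3 : (relFrob p A B).Etale := etale_of_comp _ _ (RingHom.etale_algebraMap.mpr h1) h2
  algebraize [relFrob p A B]
  exact bijective_algebraMap_of_etale_of_pRad (BaseChange p A B) B (natCast_baseChange p A B)
    (pRad_relFrob p A B)

theorem etale_iff_bijective_relFrob [Algebra.FinitePresentation A B] :
    Algebra.Etale A B ↔ Function.Bijective (relFrob p A B) :=
  ⟨fun _ => bijective_relFrob_of_etale p A B,
    fun h => { formallyEtale := formallyEtale_of_bijective p A B h }⟩

theorem perfR_of_etale [Algebra.Etale A B] (hA : PerfR p A) : PerfR p B := by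
  refine ⟨CharP.cast_eq_zero B p, ?_⟩
  have h := bijective_relFrob_of_etale p A B
  have hbt : Function.Bijective (algebraMap A (Twist p A)) := hA.2
  have h2 : Function.Bijective (fun b : B => relFrob p A B (b ⊗ₜ[A] (1 : Twist p A))) := by
    refine h.comp ?_
    let e : A ≃ₐ[A] Twist p A := AlgEquiv.ofBijective (Algebra.ofId A (Twist p A)) hbt
    have : (fun b : B => b ⊗ₜ[A] (1 : Twist p A)) =
        (Algebra.TensorProduct.congr (AlgEquiv.refl (R := A) (A₁ := B)) e) ∘
          (Algebra.TensorProduct.rid A A B).symm := by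
      funext b
      simp [e]
    rw [this]
    exact (AlgEquiv.bijective _).comp (AlgEquiv.bijective _)
  convert h2 using 1
  funext b
  rw [← map_one (toTwist p A), relFrob_tmul, map_one, mul_one]

end Groth.Agent.H27Frob
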