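import Groth.Agent.H27Frob.Etale

/-!
# Perfect closures of étale algebras
-/

set_option autoImplicit false
universe u

open TensorProduct

namespace Groth.Agent.H27Frob

open Groth.Agent.H27Perf

variable {p : ℕ} [hp : Fact p.Prime]

theorem perfR_of_etale_hom {A B : Type u} [CommRing A] [CommRing B] (f : A →+* B) (hf : f.Etale)
    (hA : PerfR p A) : PerfR p B := by
  rcases subsingleton_or_nontrivial B with hB | hB
  · exact ⟨Subsingleton.elim _ _, fun a b _ => Subsingleton.elim a b,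
      fun b => ⟨b, Subsingleton.elim _ _⟩⟩
  have hB0 : (p : B) = 0 := natCast_map f hA.1
  have : Nontrivial A := f.domain_nontrivial
  have : CharP A p := (CharP.charP_iff_prime_eq_zero hp.out).2 hA.1
  have : CharP B p := (CharP.charP_iff_prime_eq_zero hp.out).2 hB0
  algebraize [f]
  exact perfR_of_etale p A B hA

variable {A B A' B' : Type u} [CommRing A] [CommRing B] [CommRing A'] [CommRing B']
  [Algebra A B] [Algebra A A'] [Algebra B B'] [Algebra A B'] [IsScalarTower A B B']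

theorem bijective_lift_of_etale [Algebra.Etale A B] (hp0 : (p : A) = 0)
    (hi : PRad p (algebraMap A A')) (hj : PRad p (algebraMap B B')) (hA' : PerfR p A')
    (hB' : PerfR p B') (φ' : A' →ₐ[A] B') :
    Function.Bijective (Algebra.TensorProduct.lift φ' (IsScalarTower.toAlgHom A B B')
      (fun a b => Commute.all (φ' a) (IsScalarTower.toAlgHom A B B' b))) := by
  let L := Algebra.TensorProduct.lift φ' (IsScalarTower.toAlgHom A B B')
      (fun a b => Commute.all (φ' a) (IsScalarTower.toAlgHom A B B' b))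
  have hT0 : (p : A' ⊗[A] B) = 0 := natCast_map (algebraMap A (A' ⊗[A] B)) hp0
  have hL : ∀ b, L (1 ⊗ₜ[A] b) = algebraMap B B' b := fun b => by
    simp [L]
  have hpow : ∀ x : A' ⊗[A] B, ∃ n, ∀ m, n ≤ m → ∃ b : B, x ^ p ^ m = 1 ⊗ₜ[A] b := by
    intro x
    induction x using TensorProduct.induction_on with
    | zero => exact ⟨0, fun m _ => ⟨0, by rw [zero_pow (pow_ne_zero _ hp.out.ne_zero), TensorProduct.tmul_zero]⟩⟩
    | tmul a b =>
      obtain ⟨n, hn⟩ := hi.pow_mem_ge a
      refine ⟨n, fun m hm => ?_⟩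
      obtain ⟨r, hr⟩ := hn m hm
      refine ⟨r • b ^ p ^ m, ?_⟩
      rw [Algebra.TensorProduct.tmul_pow, ← hr, Algebra.algebraMap_eq_smul_one,
        TensorProduct.smul_tmul]
    | add x y hx hy =>
      obtain ⟨n₁, h₁⟩ := hx
      obtain ⟨n₂, h₂⟩ := hy
      refine ⟨max n₁ n₂, fun m hm => ?_⟩
      obtain ⟨b₁, e₁⟩ := h₁ m ((le_max_left _ _).trans hm)
      obtain ⟨b₂, e₂⟩ := h₂ m ((le_max_right _ _).trans hm)
      exact ⟨b₁ + b₂, by rw [add_pow' hT0, e₁, e₂, TensorProduct.tmul_add]⟩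
  have hT : PerfR p (A' ⊗[A] B) :=
    perfR_of_etale_hom (algebraMap A' (A' ⊗[A] B)) (RingHom.etale_algebraMap.mpr inferInstance) hA'
  constructor
  · rw [injective_iff_map_eq_zero]
    intro x hx
    change L x = 0 at hx
    obtain ⟨n, hn⟩ := hpow x
    obtain ⟨b, hb⟩ := hn n le_rfl
    have : algebraMap B B' b = 0 := by
      rw [← hL, ← hb, map_pow, hx, zero_pow (pow_ne_zero _ hp.out.ne_zero)]
    obtain ⟨m, hm⟩ := hj.ker b this
    refine hT.eq_zero (n := n + m) ?_
    rw [pow_add, pow_mul, hb, Algebra.TensorProduct.tmul_pow, hm, TensorProduct.tmul_zero]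
  · intro y
    obtain ⟨n, b, hb⟩ := hj.pow_mem y
    obtain ⟨x, hx⟩ := hT.exists_root (1 ⊗ₜ[A] b) n
    refine ⟨x, hB'.ext_of_pow (n := n) ?_⟩
    change L x ^ p ^ n = y ^ p ^ n
    rw [← map_pow, hx, hL, hb]

end Groth.Agent.H27Frob
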