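import Groth.Agent.H27Perf.Ring
import Mathlib

/-!
# Rings with finite Frobenius (F-finite rings)
-/

set_option autoImplicit false
universe u

namespace Groth.Agent.H27Frob

variable {p : ℕ} [hp : Fact p.Prime]

theorem frobenius_isIntegral (A : Type u) [CommRing A] [CharP A p] : (frobenius A p).IsIntegral :=
  fun a => ⟨Polynomial.X ^ p - Polynomial.C a, Polynomial.monic_X_pow_sub_C a hp.out.ne_zero,
    by simp [frobenius_def]⟩

omit hp in
theorem finite_of_generate {A₀ A B₀ B : Type u} [CommRing A₀] [CommRing A] [CommRing B₀] [CommRing B]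
    (φ : A₀ →+* A) (ψ : B₀ →+* B) (f₀ : A₀ →+* B₀) (f : A →+* B) (hc : ∀ c, f (φ c) = ψ (f₀ c))
    (hφ : φ.Finite) (hψ : ψ.IsIntegral) (E : Finset B)
    (hgen : ∀ R : Subring B, (∀ a, f a ∈ R) → (∀ c, ψ c ∈ R) → (∀ e ∈ E, e ∈ R) → R = ⊤) :
    ψ.Finite := by
  classical
  refine RingHom.IsIntegral.to_finite hψ ?_
  algebraize [φ, ψ]
  obtain ⟨G, hG⟩ := (Module.finite_def.mp hφ : (⊤ : Submodule A₀ A).FG)
  refine ⟨G.image f ∪ E, ?_⟩
  let T := Algebra.adjoin B₀ ((G.image f ∪ E : Finset B) : Set B)
  have h := hgen T.toSubring (fun a => ?_) (fun c => T.algebraMap_mem c)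
    (fun e he => Algebra.subset_adjoin (by simp [he]))
  · exact Algebra.eq_top_iff.mpr fun b => (Subalgebra.mem_toSubring (S := T)).mp (h ▸ Subring.mem_top b)
  · have ha : a ∈ (⊤ : Submodule A₀ A) := trivial
    rw [← hG] at ha
    induction ha using Submodule.span_induction with
    | mem g hg => exact Algebra.subset_adjoin (by simp; exact Or.inl ⟨g, hg, rfl⟩)
    | zero => rw [map_zero]; exact T.zero_mem
    | add x y _ _ hx hy => rw [map_add]; exact T.add_mem hx hy
    | smul c x _ hx =>
      rw [show c • x = φ c * x from rfl, map_mul, hc]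
      exact T.mul_mem (T.algebraMap_mem (f₀ c)) hx

theorem frobenius_finite_of_generate {A B : Type u} [CommRing A] [CommRing B] [CharP A p] [CharP B p]
    (f : A →+* B) (hA : (frobenius A p).Finite) (E : Finset B)
    (hgen : ∀ R : Subring B, (∀ a, f a ∈ R) → (∀ b : B, b ^ p ∈ R) → (∀ e ∈ E, e ∈ R) → R = ⊤) :
    (frobenius B p).Finite :=
  finite_of_generate (frobenius A p) (frobenius B p) f f (fun c => map_pow f c p) hA
    (frobenius_isIntegral B) E hgen

theorem frobenius_finite_of_surjective {A B : Type u} [CommRing A] [CommRing B] [CharP A p] [CharP B p]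
    (f : A →+* B) (hf : Function.Surjective f) (hA : (frobenius A p).Finite) :
    (frobenius B p).Finite :=
  frobenius_finite_of_generate f hA ∅ fun R hR _ _ => eq_top_iff.mpr fun b _ =>
    let ⟨a, ha⟩ := hf b
    ha ▸ hR a

theorem frobenius_finite_of_isLocalization {A : Type u} [CommRing A] [CharP A p]
    (hA : (frobenius A p).Finite) (S : Submonoid A) (B : Type u) [CommRing B] [Algebra A B]
    [IsLocalization S B] [CharP B p] : (frobenius B p).Finite :=
  frobenius_finite_of_generate (algebraMap A B) hA ∅ fun R hR hpow _ => eq_top_iff.mpr fun b _ => by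
    obtain ⟨a, s, rfl⟩ := IsLocalization.exists_mk'_eq S b
    have : IsLocalization.mk' B a s =
        algebraMap A B (a * (s : A) ^ (p - 1)) * IsLocalization.mk' B 1 s ^ p := by
      rw [map_mul, map_pow]
      have h1 : algebraMap A B s * IsLocalization.mk' B 1 s = 1 := by
        rw [IsLocalization.mk'_spec'_mk, map_one]
      have h2 : IsLocalization.mk' B a s = algebraMap A B a * IsLocalization.mk' B 1 s := by
        rw [IsLocalization.mul_mk'_eq_mk'_of_mul, mul_one]
      calc IsLocalization.mk' B a s
          = algebraMap A B a * IsLocalization.mk' B 1 s *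
              (algebraMap A B s * IsLocalization.mk' B 1 s) ^ (p - 1) := by rw [h1, one_pow, mul_one, h2]
        _ = algebraMap A B a * algebraMap A B s ^ (p - 1) *
              (IsLocalization.mk' B 1 s ^ (p - 1) * IsLocalization.mk' B 1 s) := by ring
        _ = _ := by rw [← pow_succ, Nat.sub_add_cancel hp.out.pos]
    rw [this]
    exact R.mul_mem (hR _) (hpow _)

theorem frobenius_finite_of_finiteType {R A : Type u} [CommRing R] [CommRing A] [Algebra R A]
    [Algebra.FiniteType R A] [CharP R p] [CharP A p] (hR : (frobenius R p).Finite) :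
    (frobenius A p).Finite := by
  obtain ⟨E, hE⟩ := Algebra.FiniteType.out (R := R) (A := A)
  refine frobenius_finite_of_generate (algebraMap R A) hR E fun T hT _ hET => eq_top_iff.mpr fun a htop => ?_
  have ha : a ∈ Algebra.adjoin R (E : Set A) := hE ▸ Algebra.mem_top
  clear htop
  induction ha using Algebra.adjoin_induction with
  | mem x hx => exact hET x hx
  | algebraMap r => exact hT r
  | add x y _ _ hx hy => exact T.add_mem hx hy
  | mul x y _ _ hx hy => exact T.mul_mem hx hy

omit hp in
theorem finite_of_forall_exists_sum {R S : Type u} [CommRing R] [CommRing S] (φ : R →+* S) (m : ℕ)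
    (e : ℕ → S) (h : ∀ s, ∃ c : ℕ → R, s = ∑ j ∈ Finset.range m, φ (c j) * e j) : φ.Finite := by
  classical
  algebraize [φ]
  refine ⟨⟨(Finset.range m).image e, eq_top_iff.mpr fun s _ => ?_⟩⟩
  obtain ⟨c, hc⟩ := h s
  rw [hc]
  refine Submodule.sum_mem _ fun j hj => ?_
  change c j • e j ∈ _
  exact Submodule.smul_mem _ _ (Submodule.subset_span (Finset.mem_image_of_mem _ hj))

theorem frobenius_powerSeries_finite (k : Type u) [CommRing k] [CharP k p] [PerfectRing k p]
    [CharP (PowerSeries k) p] : (frobenius (PowerSeries k) p).Finite := by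
  have : ExpChar k p := .prime hp.out
  refine finite_of_forall_exists_sum (frobenius (PowerSeries k) p) p
    (fun j => (PowerSeries.X : PowerSeries k) ^ j) fun f => ?_
  let g : ℕ → PowerSeries k := fun j =>
    PowerSeries.mk fun n => (frobeniusEquiv k p).symm (PowerSeries.coeff (n * p + j) f)
  have key : ∀ j n, PowerSeries.coeff n (g j ^ p) =
      if p ∣ n then PowerSeries.coeff (n / p * p + j) f else 0 := fun j n => by
    have h0 : g j ^ p = PowerSeries.map (frobenius k p) (PowerSeries.expand p hp.out.ne_zero (g j)) :=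
      (MvPowerSeries.map_frobenius_expand p hp.out.ne_zero).symm
    rw [h0, PowerSeries.coeff_map, PowerSeries.coeff_expand]
    split_ifs with h
    · simp [g]
    · exact map_zero _
  have hf : f = ∑ j ∈ Finset.range p, g j ^ p * PowerSeries.X ^ j := by
    ext n
    rw [map_sum, Finset.sum_eq_single (n % p)]
    · have h : n - n % p = p * (n / p) := by have := Nat.div_add_mod n p; omega
      rw [PowerSeries.coeff_mul_X_pow', if_pos (Nat.mod_le n p), key, h,
        if_pos (dvd_mul_right p _), Nat.mul_div_cancel_left _ hp.out.pos, Nat.div_add_mod' n p]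
    · intro j hj hne
      rw [PowerSeries.coeff_mul_X_pow']
      split_ifs with hle
      · rw [key, if_neg]
        intro hd
        refine hne ?_
        have h1 : n % p = j % p := by
          obtain ⟨c, hc⟩ := hd
          have : n = p * c + j := by omega
          rw [this, Nat.mul_add_mod]
        rw [h1, Nat.mod_eq_of_lt (Finset.mem_range.mp hj)]
      · rfl
    · intro h
      exact absurd (Finset.mem_range.mpr (Nat.mod_lt n hp.out.pos)) h
  exact ⟨g, hf⟩

end Groth.Agent.H27Frob
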