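import Groth.Agent.H27Frob.W2
import Mathlib

/-!
# A criterion for flat liftings to `W₂(k)`

If `π₀ : Q' → A` is surjective and `θ` is a `Q'`-linear map on `ker π₀` with values in `A` extending
`p g ↦ π₀ g`, then `Q' / ker θ` is a flat lifting of `A`.
-/

set_option autoImplicit false
universe u v w

namespace Groth.Agent.H27Frob

open TensorProduct

variable (p : ℕ) [hp : Fact p.Prime] (k : Type u) [Field k] [CharP k p] [PerfectRing k p]

theorem res_surjective : Function.Surjective (FrobAlg.res p k) := fun a => by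
  refine ⟨WittVector.truncate 2 (WittVector.teichmuller p a), ?_⟩
  rw [FrobAlg.res_truncate, WittVector.teichmuller_coeff_zero]

theorem res_natCast : FrobAlg.res p k (p : FrobAlg.W2 p k) = 0 := by
  rw [map_natCast, CharP.cast_eq_zero]

theorem ker_res : RingHom.ker (FrobAlg.res p k) = Ideal.span {(p : FrobAlg.W2 p k)} := by
  refine le_antisymm (fun x hx => Ideal.mem_span_singleton.mpr (natCast_dvd_W2 p k hx)) ?_
  rw [Ideal.span_le, Set.singleton_subset_iff]
  exact res_natCast p k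

theorem isNoetherianRing_W2 : IsNoetherianRing (FrobAlg.W2 p k) := by
  refine (isNoetherianRing_iff_ideal_fg _).mpr fun I => ?_
  rcases W2_ideals p k I with rfl | rfl | rfl
  · exact Submodule.fg_bot
  · exact ⟨{(p : FrobAlg.W2 p k)}, by simp⟩
  · exact ⟨{1}, by simp⟩

theorem natCast_sq_of_hom {C : Type v} [CommRing C] (ι : FrobAlg.W2 p k →+* C) :
    (p : C) * p = 0 := by
  rw [← map_natCast ι, ← map_mul, natCast_sq_W2, map_zero]

theorem IsLift_ker_dvd {A : Type v} [CommRing A] [Algebra k A] {B : Type v} [CommRing B]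
    {ι : FrobAlg.W2 p k →+* B} {π : B →+* A} (h : FrobAlg.IsLift p k A B ι π) {b : B} (hb : π b = 0) :
    ∃ c, b = (p : B) * c := by
  have : b ∈ RingHom.ker π := hb
  rw [h.ker_eq, ker_res, Ideal.map_span, Set.image_singleton, map_natCast,
    Ideal.mem_span_singleton] at this
  exact this

theorem IsLift_map_natCast {A : Type v} [CommRing A] [Algebra k A] : (p : A) = 0 := by
  rw [← map_natCast (algebraMap k A), CharP.cast_eq_zero, map_zero]

theorem IsLift_ann {A : Type v} [CommRing A] [Algebra k A] {B : Type v} [CommRing B]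
    {ι : FrobAlg.W2 p k →+* B} {π : B →+* A} (h : FrobAlg.IsLift p k A B ι π) {b : B}
    (hb : (p : B) * b = 0) : π b = 0 := by
  algebraize [ι]
  have : Module.Flat (FrobAlg.W2 p k) B := h.flat
  obtain ⟨c, rfl⟩ := (flat_W2_iff p k B).mp this b (by
    rw [Algebra.smul_def, map_natCast]; exact hb)
  rw [Algebra.smul_def, map_natCast, map_mul, map_natCast, IsLift_map_natCast p k, zero_mul]

theorem IsLift_ann_dvd {A : Type v} [CommRing A] [Algebra k A] {B : Type v} [CommRing B]
    {ι : FrobAlg.W2 p k →+* B} {π : B →+* A} (h : FrobAlg.IsLift p k A B ι π) {b : B} :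
    (p : B) * b = 0 ↔ π b = 0 := by
  refine ⟨IsLift_ann p k h, fun hb => ?_⟩
  obtain ⟨c, rfl⟩ := IsLift_ker_dvd p k h hb
  rw [← mul_assoc, natCast_sq_of_hom p k ι, zero_mul]

variable {A : Type v} [CommRing A] [Algebra k A] {Q : Type v} [CommRing Q]
  (ι₀ : FrobAlg.W2 p k →+* Q) (π₀ : Q →+* A)

/-- The data of a linearised lifting. -/
structure IsTheta (θ : Q → A) : Prop where
  add : ∀ f g, π₀ f = 0 → π₀ g = 0 → θ (f + g) = θ f + θ g
  smul : ∀ g f, π₀ f = 0 → θ (g * f) = π₀ g * θ f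
  natCast : ∀ g, θ ((p : Q) * g) = π₀ g

theorem isW2Liftable_of_theta (hπ : Function.Surjective π₀)
    (hcomm : π₀.comp ι₀ = (algebraMap k A).comp (FrobAlg.res p k))
    (θ : Q → A) (hθ : IsTheta p π₀ θ) : FrobAlg.IsW2Liftable p k A := by
  have hp0 : ∀ g : Q, π₀ ((p : Q) * g) = 0 := fun g => by
    rw [map_mul, map_natCast, IsLift_map_natCast p k, zero_mul]
  let J : Ideal Q :=
    { carrier := {f | π₀ f = 0 ∧ θ f = 0}
      zero_mem' := ⟨map_zero _, by simpa using hθ.natCast 0⟩
      add_mem' := fun {a b} ha hb =>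
        ⟨by rw [map_add, ha.1, hb.1, add_zero], by rw [hθ.add a b ha.1 hb.1, ha.2, hb.2, add_zero]⟩
      smul_mem' := fun c f hf =>
        ⟨by rw [smul_eq_mul, map_mul, hf.1, mul_zero], by rw [smul_eq_mul, hθ.smul c f hf.1, hf.2, mul_zero]⟩ }
  let π : Q ⧸ J →+* A := Ideal.Quotient.lift J π₀ (fun f hf => hf.1)
  refine ⟨Q ⧸ J, inferInstance, (Ideal.Quotient.mk J).comp ι₀, π, ⟨?_, ?_, ?_, ?_⟩⟩
  · algebraize [(Ideal.Quotient.mk J).comp ι₀]
    show Module.Flat (FrobAlg.W2 p k) (Q ⧸ J)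
    rw [flat_W2_iff]
    intro x hx
    obtain ⟨g, rfl⟩ := Ideal.Quotient.mk_surjective x
    rw [Algebra.smul_def, map_natCast, ← map_natCast (Ideal.Quotient.mk J), ← map_mul,
      Ideal.Quotient.eq_zero_iff_mem] at hx
    have hg : π₀ g = 0 := (hθ.natCast g).symm.trans hx.2
    obtain ⟨c, hc⟩ := hπ (θ g)
    refine ⟨Ideal.Quotient.mk J c, ?_⟩
    rw [Algebra.smul_def, map_natCast, ← map_natCast (Ideal.Quotient.mk J), ← map_mul,
      Ideal.Quotient.eq]
    refine ⟨by rw [map_sub, hg, hp0, sub_zero], ?_⟩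
    rw [sub_eq_add_neg, ← mul_neg, hθ.add g _ hg (hp0 _), hθ.natCast, map_neg, hc, add_neg_cancel]
  · intro a
    obtain ⟨g, rfl⟩ := hπ a
    exact ⟨Ideal.Quotient.mk J g, rfl⟩
  · apply le_antisymm
    · intro x hx
      obtain ⟨g, rfl⟩ := Ideal.Quotient.mk_surjective x
      have hg : π₀ g = 0 := hx
      obtain ⟨c, hc⟩ := hπ (θ g)
      rw [ker_res, Ideal.map_span, Set.image_singleton, map_natCast, Ideal.mem_span_singleton]
      refine ⟨Ideal.Quotient.mk J c, ?_⟩
      rw [← map_natCast (Ideal.Quotient.mk J), ← map_mul, Ideal.Quotient.eq]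
      refine ⟨by rw [map_sub, hg, hp0, sub_zero], ?_⟩
      rw [sub_eq_add_neg, ← mul_neg, hθ.add g _ hg (hp0 _), hθ.natCast, map_neg, hc, add_neg_cancel]
    · rw [ker_res, Ideal.map_span, Set.image_singleton, map_natCast, Ideal.span_le,
        Set.singleton_subset_iff]
      exact show π (p : Q ⧸ J) = 0 by rw [map_natCast, IsLift_map_natCast p k]
  · rw [← RingHom.comp_assoc, Ideal.Quotient.lift_comp_mk, hcomm]

variable {M : Type w} [CommRing M] [Algebra A M] {B' : Type w} [CommRing B']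

/-- A linearised lifting from a map to a ring with an `A`-linear retraction. -/
theorem exists_theta_of_retraction (r : M →ₗ[A] A) (hr : ∀ a, r (algebraMap A M a) = a)
    (χ : Q →+* B') (πB : B' →+* M) (hχ : πB.comp χ = (algebraMap A M).comp π₀)
    (hdvd : ∀ f, π₀ f = 0 → ∃ c, χ f = (p : B') * c)
    (hann : ∀ c : B', (p : B') * c = 0 → r (πB c) = 0) :
    ∃ θ : Q → A, IsTheta p π₀ θ := by
  classical
  let θ : Q → A := fun f => if h : ∃ c, χ f = (p : B') * c then r (πB h.choose) else 0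
  have key : ∀ f c, χ f = (p : B') * c → θ f = r (πB c) := by
    intro f c hc
    have h : ∃ c, χ f = (p : B') * c := ⟨c, hc⟩
    simp only [θ, dif_pos h]
    have := hann (h.choose - c) (by rw [mul_sub, ← h.choose_spec, ← hc, sub_self])
    rwa [map_sub, map_sub, sub_eq_zero] at this
  refine ⟨θ, ⟨fun f g hf hg => ?_, fun g f hf => ?_, fun g => ?_⟩⟩
  · obtain ⟨c, hc⟩ := hdvd f hf
    obtain ⟨d, hd⟩ := hdvd g hg
    rw [key f c hc, key g d hd, key (f + g) (c + d) (by rw [map_add, hc, hd, mul_add]), map_add,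
      map_add]
  · obtain ⟨c, hc⟩ := hdvd f hf
    rw [key f c hc, key (g * f) (χ g * c) (by rw [map_mul, hc]; ring), map_mul,
      ← RingHom.comp_apply πB χ, hχ, RingHom.comp_apply, ← Algebra.smul_def, map_smul, smul_eq_mul]
  · rw [key ((p : Q) * g) (χ g) (by rw [map_mul, map_natCast]), ← RingHom.comp_apply πB χ, hχ,
      RingHom.comp_apply, hr]

/-- A linearised lifting descends along a faithfully flat map. -/
theorem exists_theta_of_faithfullyFlat (hπ : Function.Surjective π₀) [IsNoetherianRing Q]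
    [Module.FaithfullyFlat A M] (hA : (p : A) = 0) (θB : Q → M)
    (hadd : ∀ f g, π₀ f = 0 → π₀ g = 0 → θB (f + g) = θB f + θB g)
    (hsmul : ∀ g f, π₀ f = 0 → θB (g * f) = algebraMap A M (π₀ g) * θB f)
    (hone : θB (p : Q) = 1) :
    ∃ θ : Q → A, IsTheta p π₀ θ := by
  classical
  letI : Algebra Q A := π₀.toAlgebra
  letI : Algebra Q M := ((algebraMap A M).comp π₀).toAlgebra
  haveI : IsScalarTower Q A M := IsScalarTower.of_algebraMap_eq fun _ => rfl
  haveI : IsNoetherianRing A := isNoetherianRing_of_surjective Q A π₀ hπ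
  let I : Ideal Q := RingHom.ker π₀
  let tB : ↥I →ₗ[Q] M :=
    { toFun := fun f => θB f.1
      map_add' := fun f g => hadd f.1 g.1 f.2 g.2
      map_smul' := fun g f => by
        rw [RingHom.id_apply, Algebra.smul_def]
        exact hsmul g f.1 f.2 }
  let T : A ⊗[Q] ↥I →ₗ[A] M := tB.liftBaseChange A
  haveI : Module.FinitePresentation A (A ⊗[Q] ↥I) := Module.finitePresentation_of_finite A _
  obtain ⟨n, h₂, h₃, hT⟩ := Module.Flat.exists_factorization_of_finitePresentation T
  let pI : ↥I := ⟨(p : Q), by show π₀ (p : Q) = 0; rw [map_natCast, hA]⟩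
  let e := h₂ (1 ⊗ₜ[Q] pI)
  have h1 : h₃ e = 1 := by
    rw [← LinearMap.comp_apply, ← hT]
    simp only [T, LinearMap.liftBaseChange_tmul, one_smul]
    exact hone
  have hS : Ideal.span (Set.range (e : Fin n → A)) = ⊤ := by
    apply Ideal.map_injective_of_faithfullyFlat (B := M)
    rw [Ideal.map_top, Ideal.eq_top_iff_one, ← h1,
      show e = ∑ i, Finsupp.single i (e i) from (Finsupp.univ_sum_single e).symm, map_sum]
    refine Ideal.sum_mem _ fun i _ => ?_
    rw [← mul_one (e i), ← smul_eq_mul, ← Finsupp.smul_single, map_smul, Algebra.smul_def]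
    refine Ideal.mul_mem_right _ _ (Ideal.mem_map_of_mem _ (Ideal.subset_span ?_))
    exact ⟨i, by simp [e]⟩
  obtain ⟨c, hc⟩ := (Ideal.mem_span_range_iff_exists_fun).mp (show (1 : A) ∈ _ by rw [hS]; trivial)
  let L : ↥I → A := fun f => ∑ i, c i * h₂ (1 ⊗ₜ[Q] f) i
  refine ⟨fun f => if h : π₀ f = 0 then L ⟨f, h⟩ else 0, ⟨fun f g hf hg => ?_, fun g f hf => ?_, fun g => ?_⟩⟩
  · have hfg : π₀ (f + g) = 0 := by rw [map_add, hf, hg, add_zero]
    rw [dif_pos hf, dif_pos hg, dif_pos hfg]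
    simp only [L]
    rw [show (⟨f + g, hfg⟩ : ↥I) = ⟨f, hf⟩ + ⟨g, hg⟩ from rfl, TensorProduct.tmul_add, map_add,
      ← Finset.sum_add_distrib]
    simp [mul_add]
  · have hgf : π₀ (g * f) = 0 := by rw [map_mul, hf, mul_zero]
    rw [dif_pos hf, dif_pos hgf]
    simp only [L]
    rw [show (⟨g * f, hgf⟩ : ↥I) = g • (⟨f, hf⟩ : ↥I) from rfl, TensorProduct.tmul_smul,
      ← algebraMap_smul A g, map_smul, Finset.mul_sum]
    refine Finset.sum_congr rfl fun i _ => ?_
    rw [Finsupp.smul_apply, smul_eq_mul, RingHom.algebraMap_toAlgebra]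
    ring
  · have hpg : π₀ ((p : Q) * g) = 0 := by rw [map_mul, map_natCast, hA, zero_mul]
    rw [dif_pos hpg]
    simp only [L]
    rw [show (⟨(p : Q) * g, hpg⟩ : ↥I) = g • pI from Subtype.ext (mul_comm _ _),
      TensorProduct.tmul_smul, ← algebraMap_smul A g, map_smul]
    calc _ = algebraMap Q A g * ∑ i, c i * e i := by
          rw [Finset.mul_sum]
          refine Finset.sum_congr rfl fun i _ => ?_
          rw [Finsupp.smul_apply, smul_eq_mul]
          ring
      _ = π₀ g := by rw [hc, mul_one, RingHom.algebraMap_toAlgebra]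

end Groth.Agent.H27Frob
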