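import Groth.Agent.H27Frob.LiftCriterion
import Mathlib

/-!
# Flat liftings to `W₂(k)`: descent along retractions and faithfully flat maps, Frobenius lifts
-/

set_option autoImplicit false
universe u

namespace Groth.Agent.H27Frob

open TensorProduct

variable (p : ℕ) [hp : Fact p.Prime] (k : Type u) [Field k] [CharP k p] [PerfectRing k p]
  {A B : Type u} [CommRing A] [CommRing B] [Algebra k A] [Algebra k B] [Algebra A B] [IsScalarTower k A B]

theorem res_sigma (w : FrobAlg.W2 p k) :
    FrobAlg.res p k (FrobAlg.sigma p k w) = FrobAlg.res p k w ^ p := by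
  rw [FrobAlg.res_apply, FrobAlg.res_apply, WittGrp.coeff_frob]

theorem isW2Liftable_of_linear_retraction (r : B →ₗ[A] A) (hr : ∀ a : A, r (algebraMap A B a) = a)
    (hB : FrobAlg.IsW2Liftable p k B) : FrobAlg.IsW2Liftable p k A := by
  obtain ⟨B', _, ιB, πB, h⟩ := hB
  let π₀ : MvPolynomial A (FrobAlg.W2 p k) →+* A :=
    MvPolynomial.eval₂Hom ((algebraMap k A).comp (FrobAlg.res p k)) id
  let χ : MvPolynomial A (FrobAlg.W2 p k) →+* B' :=
    MvPolynomial.eval₂Hom ιB (fun a => Function.surjInv h.surj (algebraMap A B a))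
  have hχ : πB.comp χ = (algebraMap A B).comp π₀ := by
    apply MvPolynomial.ringHom_ext
    · intro w
      simp only [χ, π₀, RingHom.comp_apply, MvPolynomial.eval₂Hom_C]
      rw [← RingHom.comp_apply πB ιB, h.comm, RingHom.comp_apply, ← IsScalarTower.algebraMap_apply]
    · intro a
      simp only [χ, π₀, RingHom.comp_apply, MvPolynomial.eval₂Hom_X', id, Function.surjInv_eq h.surj]
  obtain ⟨θ, hθ⟩ := exists_theta_of_retraction p π₀ r hr χ πB hχ
    (fun f hf => IsLift_ker_dvd p k h (by rw [← RingHom.comp_apply, hχ, RingHom.comp_apply, hf, map_zero]))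
    (fun c hc => by rw [IsLift_ann p k h hc, map_zero])
  exact isW2Liftable_of_theta p k MvPolynomial.C π₀ (fun a => ⟨MvPolynomial.X a, by simp [π₀]⟩)
    (RingHom.ext fun w => by simp [π₀]) θ hθ

theorem isUnit_of_isUnit_lift {A' : Type u} [CommRing A'] {ι : FrobAlg.W2 p k →+* A'} {π : A' →+* A}
    (h : FrobAlg.IsLift p k A A' ι π) {x : A'} (hx : IsUnit (π x)) : IsUnit x := by
  obtain ⟨c, hc⟩ := hx.exists_right_inv
  obtain ⟨c', rfl⟩ := h.surj c
  obtain ⟨d, hd⟩ := IsLift_ker_dvd p k h (b := x * c' - 1) (by rw [map_sub, map_mul, hc, map_one, sub_self])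
  refine IsUnit.of_mul_eq_one (c' * (1 - (p : A') * d)) ?_
  have := natCast_sq_of_hom p k ι
  linear_combination (1 - (p : A') * d) * hd - d ^ 2 * this

theorem isW2Liftable_of_faithfullyFlat [Algebra.EssFiniteType k A] [Module.FaithfullyFlat A B]
    (hB : FrobAlg.IsW2Liftable p k B) : FrobAlg.IsW2Liftable p k A := by
  classical
  obtain ⟨B', _, ιB, πB, h⟩ := hB
  obtain ⟨σ, hσ⟩ := Algebra.EssFiniteType.cond (R := k) (S := A)
  rw [Algebra.essFiniteType_cond_iff] at hσ
  let π₁ : MvPolynomial σ (FrobAlg.W2 p k) →+* A :=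
    MvPolynomial.eval₂Hom ((algebraMap k A).comp (FrobAlg.res p k)) (fun a => a.1)
  have hrange : ∀ x ∈ Algebra.adjoin k (σ : Set A), ∃ g, π₁ g = x := by
    intro x hx
    induction hx using Algebra.adjoin_induction with
    | mem x hx => exact ⟨MvPolynomial.X ⟨x, hx⟩, by simp [π₁]⟩
    | algebraMap c =>
      obtain ⟨w, rfl⟩ := res_surjective p k c
      exact ⟨MvPolynomial.C w, by simp [π₁]⟩
    | add x y _ _ hx hy =>
      obtain ⟨g, rfl⟩ := hx; obtain ⟨g', rfl⟩ := hy
      exact ⟨g + g', map_add _ _ _⟩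
    | mul x y _ _ hx hy =>
      obtain ⟨g, rfl⟩ := hx; obtain ⟨g', rfl⟩ := hy
      exact ⟨g * g', map_mul _ _ _⟩
  let S : Submonoid (MvPolynomial σ (FrobAlg.W2 p k)) := (IsUnit.submonoid A).comap π₁
  let π₀ : Localization S →+* A := IsLocalization.lift (M := S) (g := π₁) (fun y => y.2)
  have hπ : Function.Surjective π₀ := by
    intro a
    obtain ⟨t, ht, htu, hat⟩ := hσ a
    obtain ⟨g, hg⟩ := hrange _ hat
    obtain ⟨g', rfl⟩ := hrange t ht
    refine ⟨IsLocalization.mk' (Localization S) g (⟨g', show IsUnit (π₁ g') from htu⟩ : S), ?_⟩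
    exact (IsLocalization.lift_mk'_spec _ _ _ _).mpr (by rw [hg, mul_comm])
  let χ₁ : MvPolynomial σ (FrobAlg.W2 p k) →+* B' :=
    MvPolynomial.eval₂Hom ιB (fun a => Function.surjInv h.surj (algebraMap A B a.1))
  have hχ₁ : πB.comp χ₁ = (algebraMap A B).comp π₁ := by
    apply MvPolynomial.ringHom_ext
    · intro w
      simp only [χ₁, π₁, RingHom.comp_apply, MvPolynomial.eval₂Hom_C]
      rw [← RingHom.comp_apply πB ιB, h.comm, RingHom.comp_apply, ← IsScalarTower.algebraMap_apply]
    · intro a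
      simp only [χ₁, π₁, RingHom.comp_apply, MvPolynomial.eval₂Hom_X', Function.surjInv_eq h.surj]
  let χ : Localization S →+* B' := IsLocalization.lift (M := S) (g := χ₁) (fun y => by
    refine isUnit_of_isUnit_lift p k h ?_
    rw [← RingHom.comp_apply, hχ₁]
    exact IsUnit.map (algebraMap A B) (show IsUnit (π₁ y.1) from y.2))
  have hχ : πB.comp χ = (algebraMap A B).comp π₀ := by
    apply IsLocalization.ringHom_ext S
    rw [RingHom.comp_assoc, RingHom.comp_assoc,
      show χ.comp (algebraMap _ (Localization S)) = χ₁ from IsLocalization.lift_comp _,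
      show π₀.comp (algebraMap _ (Localization S)) = π₁ from IsLocalization.lift_comp _, hχ₁]
  haveI := isNoetherianRing_W2 p k
  haveI : IsNoetherianRing (Localization S) :=
    IsLocalization.isNoetherianRing S _ inferInstance
  have hpA : (p : A) = 0 := IsLift_map_natCast p k
  have hval : ∀ f, π₀ f = 0 → ∃ c, χ f = (p : B') * c := fun f hf =>
    IsLift_ker_dvd p k h (by rw [← RingHom.comp_apply, hχ, RingHom.comp_apply, hf, map_zero])
  choose! c hc using hval
  have key : ∀ f d, π₀ f = 0 → χ f = (p : B') * d → πB (c f) = πB d := by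
    intro f d hf hd
    have := IsLift_ann p k h (b := c f - d) (by rw [mul_sub, ← hc f hf, hd, sub_self])
    rwa [map_sub, sub_eq_zero] at this
  obtain ⟨θ, hθ⟩ := exists_theta_of_faithfullyFlat p π₀ hπ hpA (fun f => πB (c f))
    (fun f g hf hg => by
      rw [← map_add]
      exact key _ _ (by rw [map_add, hf, hg, add_zero]) (by rw [map_add, hc f hf, hc g hg, mul_add]))
    (fun g f hf => by
      rw [← RingHom.comp_apply (algebraMap A B) π₀, ← hχ, RingHom.comp_apply, ← map_mul]
      exact key _ _ (by rw [map_mul, hf, mul_zero]) (by rw [map_mul, hc f hf]; ring))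
    (by
      rw [key _ 1 (by rw [map_natCast, hpA]) (by rw [map_natCast, mul_one]), map_one])
  exact isW2Liftable_of_theta p k
    ((algebraMap (MvPolynomial σ (FrobAlg.W2 p k)) (Localization S)).comp MvPolynomial.C) π₀ hπ
    (by rw [← RingHom.comp_assoc, show π₀.comp (algebraMap _ (Localization S)) = π₁ from IsLocalization.lift_comp _]; exact RingHom.ext fun w => by simp [π₁])
    θ hθ

theorem exists_frobLift_of_linear_retraction (r : B →ₗ[A] A) (hr : ∀ a : A, r (algebraMap A B a) = a)
    {A' B' : Type u} [CommRing A'] [CommRing B']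
    {ιA : FrobAlg.W2 p k →+* A'} {πA : A' →+* A} (hA : FrobAlg.IsLift p k A A' ιA πA)
    {ιB : FrobAlg.W2 p k →+* B'} {πB : B' →+* B} (hB : FrobAlg.IsLift p k B B' ιB πB)
    (φ : A' →+* B') (hφι : φ.comp ιA = ιB) (hφπ : πB.comp φ = (algebraMap A B).comp πA)
    (ΦB : B' →+* B') (hΦB : FrobAlg.IsFrobLift p k B B' ιB πB ΦB) :
    ∃ ΦA : A' →+* A', FrobAlg.IsFrobLift p k A A' ιA πA ΦA := by
  have hφ : ∀ a, πB (φ a) = algebraMap A B (πA a) := fun a => congr($hφπ a)
  have hex : ∀ a, ∃ c, ΦB (φ a) - φ (a ^ p) = (p : B') * c := fun a => IsLift_ker_dvd p k hB (by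
    rw [map_sub, hΦB.red, map_pow φ, map_pow, sub_self])
  choose c hc using hex
  let δ : A' → A := fun a => r (πB (c a))
  have hδ : ∀ a d, ΦB (φ a) - φ (a ^ p) = (p : B') * d → δ a = r (πB d) := by
    intro a d hd
    have := IsLift_ann p k hB (b := c a - d) (by rw [mul_sub, ← hc a, hd, sub_self])
    rw [map_sub, sub_eq_zero] at this
    simp only [δ, this]
  let pm : A → A' := fun x => (p : A') * Function.surjInv hA.surj x
  have hpm : ∀ x : A', pm (πA x) = (p : A') * x := fun x => by
    have := (IsLift_ann_dvd p k hA (b := Function.surjInv hA.surj (πA x) - x)).mpr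
      (by rw [map_sub, Function.surjInv_eq hA.surj, sub_self])
    simp only [pm]
    linear_combination this
  let F : A' → A' := fun a => a ^ p + pm (δ a)
  have hval : ∀ a a₀ : A', ΦB (φ a) = φ a₀ → πA a₀ = πA a ^ p → F a = a₀ := by
    intro a a₀ h1 h2
    obtain ⟨d, hd⟩ := IsLift_ker_dvd p k hA (b := a₀ - a ^ p) (by rw [map_sub, h2, map_pow, sub_self])
    have : δ a = πA d := by
      rw [hδ a (φ d) (by rw [h1, ← map_sub, hd, map_mul, map_natCast]), hφ, hr]
    show a ^ p + pm (δ a) = a₀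
    rw [this, hpm]
    linear_combination -hd
  have hadd : ∀ a b, F (a + b) = F a + F b := by
    intro a b
    obtain ⟨C, hC⟩ : ∃ C, (a + b) ^ p = a ^ p + b ^ p + (p : A') * C :=
      ⟨_, ((Commute.all a b).add_pow_prime_eq hp.out).trans (by simp only [mul_assoc]; rfl)⟩
    have : δ (a + b) = δ a + δ b - πA C := by
      rw [hδ (a + b) (c a + c b - φ C) (by
        rw [map_add φ, map_add ΦB, hC, map_add φ, map_add φ, map_mul φ, map_natCast]
        linear_combination hc a + hc b)]
      simp only [δ, map_sub, map_add, hφ, hr]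
    obtain ⟨x, hx⟩ := hA.surj (δ a)
    obtain ⟨y, hy⟩ := hA.surj (δ b)
    show (a + b) ^ p + pm (δ (a + b)) = a ^ p + pm (δ a) + (b ^ p + pm (δ b))
    rw [this, ← hx, ← hy, ← map_add, ← map_sub, hpm, hpm, hpm, hC]
    ring
  have hmul : ∀ a b, F (a * b) = F a * F b := by
    intro a b
    have hp2 : (p : B') * p = 0 := natCast_sq_of_hom p k ιB
    have hp2A : (p : A') * p = 0 := natCast_sq_of_hom p k ιA
    have : δ (a * b) = πA (a ^ p) * δ b + πA (b ^ p) * δ a := by
      rw [hδ (a * b) (φ (a ^ p) * c b + φ (b ^ p) * c a + (p : B') * (c a * c b)) (by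
        rw [map_mul φ, map_mul ΦB, mul_pow, map_mul φ]
        linear_combination (ΦB (φ b)) * hc a + (φ (a ^ p) + (p : B') * c a) * hc b)]
      simp only [δ, map_add, map_mul, map_natCast, IsLift_map_natCast p k (A := B), zero_mul, map_zero,
        add_zero, hφ, ← Algebra.smul_def, map_smul, smul_eq_mul]
    obtain ⟨x, hx⟩ := hA.surj (δ a)
    obtain ⟨y, hy⟩ := hA.surj (δ b)
    show (a * b) ^ p + pm (δ (a * b)) = (a ^ p + pm (δ a)) * (b ^ p + pm (δ b))
    rw [this, ← hx, ← hy, ← map_mul, ← map_mul, ← map_add, hpm, hpm, hpm, mul_pow]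
    linear_combination -(x * y) * hp2A
  have hone : F 1 = 1 := hval 1 1 (by simp) (by simp)
  have hzero : F 0 = 0 := hval 0 0 (by simp) (by simp [hp.out.ne_zero])
  refine ⟨{ toFun := F, map_one' := hone, map_mul' := hmul, map_zero' := hzero, map_add' := hadd },
    ⟨hA, ?_, ?_⟩⟩
  · refine RingHom.ext fun w => hval _ _ ?_ ?_
    · change ΦB (φ (ιA w)) = φ (ιA (FrobAlg.sigma p k w))
      rw [← RingHom.comp_apply φ ιA, ← RingHom.comp_apply φ ιA, hφι, ← RingHom.comp_apply ΦB, hΦB.semi]
      rfl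
    · rw [RingHom.comp_apply, ← RingHom.comp_apply πA, ← RingHom.comp_apply πA, hA.comm, RingHom.comp_apply,
        RingHom.comp_apply, res_sigma, map_pow]
  · intro b
    change πA (b ^ p + pm (δ b)) = _
    rw [map_add, map_pow]
    obtain ⟨x, hx⟩ := hA.surj (δ b)
    rw [← hx, hpm, map_mul, map_natCast, IsLift_map_natCast p k, zero_mul, add_zero]

end Groth.Agent.H27Frob
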