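import Groth.Agent.S11991
import Mathlib

/-! # The p-degree of function fields over Laurent series fields -/

set_option autoImplicit false
set_option linter.unusedSectionVars false

noncomputable section

universe u

namespace Groth.Agent.H27Frob.PDegree

variable (p : ℕ) [hp : Fact p.Prime]

theorem powerSeries_decomp (k : Type u) [CommRing k] [CharP k p] [PerfectRing k p] (f : PowerSeries k) :
    ∃ g : ℕ → PowerSeries k, f = ∑ j ∈ Finset.range p, g j ^ p * PowerSeries.X ^ j := by
  have : ExpChar k p := .prime hp.out
  let g : ℕ → PowerSeries k := fun j =>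
    PowerSeries.mk fun n => (frobeniusEquiv k p).symm (PowerSeries.coeff (n * p + j) f)
  have key : ∀ j n, PowerSeries.coeff n (g j ^ p) =
      if p ∣ n then PowerSeries.coeff (n / p * p + j) f else 0 := fun j n => by
    have h0 : g j ^ p = PowerSeries.map (frobenius k p) (PowerSeries.expand p hp.out.ne_zero (g j)) :=
      (MvPowerSeries.map_frobenius_expand p hp.out.ne_zero).symm
    rw [h0, PowerSeries.coeff_map, PowerSeries.coeff_expand]
    split_ifs with h
    · simp [g]
    · exact map_zero _
  refine ⟨g, ?_⟩
  ext n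
  rw [map_sum, Finset.sum_eq_single (n % p)]
  · have h : n - n % p = p * (n / p) := by have := Nat.div_add_mod n p; omega
    rw [PowerSeries.coeff_mul_X_pow', if_pos (Nat.mod_le n p), key, h,
      if_pos (dvd_mul_right p _), Nat.mul_div_cancel_left _ hp.out.pos, Nat.div_add_mod' n p]
  · intro j hj hne
    rw [PowerSeries.coeff_mul_X_pow']
    split_ifs with hle
    · rw [key, if_neg]
      intro hd
      refine hne ?_
      have h1 : n % p = j % p := by
        obtain ⟨c, hc⟩ := hd
        have : n = p * c + j := by omega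
        rw [this, Nat.mul_add_mod]
      rw [h1, Nat.mod_eq_of_lt (Finset.mem_range.mp hj)]
    · rfl
  · intro h
    exact absurd (Finset.mem_range.mpr (Nat.mod_lt n hp.out.pos)) h

variable {p}

/-- The uniformiser. -/
abbrev lt (k : Type u) [Field k] : LaurentSeries k := HahnSeries.single (1 : ℤ) 1

theorem lt_ne_pow (k : Type u) [Field k] (b : LaurentSeries k) : b ^ p ≠ lt k := by
  intro h
  have h1 := congrArg HahnSeries.order h
  rw [HahnSeries.order_pow, HahnSeries.order_single one_ne_zero, nsmul_eq_mul] at h1
  have h2 : (p : ℤ) ∣ 1 := ⟨_, h1.symm⟩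
  have h3 := Int.le_of_dvd one_pos h2
  have := hp.out.two_le
  omega

theorem laurent_mem {k : Type u} [Field k] [CharP k p] [PerfectRing k p] {K : Type u} [Field K]
    [Algebra (LaurentSeries k) K] (S : Subfield K)
    (hpow : ∀ g : LaurentSeries k, algebraMap (LaurentSeries k) K g ^ p ∈ S)
    (ht : algebraMap (LaurentSeries k) K (lt k) ∈ S) (f : LaurentSeries k) :
    algebraMap (LaurentSeries k) K f ∈ S := by
  have hps : ∀ g : PowerSeries k, algebraMap (LaurentSeries k) K (HahnSeries.ofPowerSeries ℤ k g) ∈ S := by
    intro g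
    obtain ⟨c, hc⟩ := powerSeries_decomp p k g
    rw [hc, map_sum, map_sum]
    refine sum_mem fun j _ => ?_
    rw [map_mul, map_mul, map_pow, map_pow, map_pow, map_pow, HahnSeries.ofPowerSeries_X]
    exact mul_mem (hpow _) (pow_mem ht _)
  rw [← LaurentSeries.single_order_mul_powerSeriesPart f, map_mul]
  refine mul_mem ?_ (hps _)
  have : (HahnSeries.single f.order (1 : k) : LaurentSeries k) = lt k ^ f.order := by
    exact RatFunc.single_zpow _
  rw [this, map_zpow₀]
  exact zpow_mem ht _

theorem lt_not_pow_mem {F K : Type u} [Field F] [Infinite F] [Field K] [Algebra F K] {n : ℕ} (x : Fin n → K)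
    (hx : AlgebraicIndependent F x) (a : F) (ha : ∀ b : F, b ^ p ≠ a) (z : K)
    (hz : z ∈ IntermediateField.adjoin F (Set.range x)) : z ^ p ≠ algebraMap F K a := by
  classical
  intro h
  obtain ⟨r, s, rfl⟩ := (IntermediateField.mem_adjoin_range_iff F x z).mp hz
  by_cases hs : MvPolynomial.aeval x s = 0
  · rw [hs, div_zero, zero_pow hp.out.ne_zero] at h
    refine ha 0 ?_
    rw [zero_pow hp.out.ne_zero]
    exact ((map_eq_zero _).mp h.symm).symm
  rw [div_pow, div_eq_iff (pow_ne_zero _ hs)] at h
  have he : r ^ p = MvPolynomial.C a * s ^ p := by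
    refine hx ?_
    rw [map_pow, map_mul, map_pow, MvPolynomial.aeval_C]
    exact h
  have hs0 : s ≠ 0 := fun e => hs (by rw [e, map_zero])
  obtain ⟨v, hv⟩ : ∃ v : Fin n → F, MvPolynomial.eval v s ≠ 0 := by
    by_contra hcon
    rw [not_exists] at hcon
    exact hs0 (MvPolynomial.funext fun v => by rw [map_zero]; exact not_not.mp (hcon v))
  have h2 := congrArg (MvPolynomial.eval v) he
  rw [map_pow, map_mul, map_pow, MvPolynomial.eval_C] at h2
  exact ha (MvPolynomial.eval v r / MvPolynomial.eval v s) (by
    rw [div_pow, h2, mul_div_assoc, div_self (pow_ne_zero _ hv), mul_one])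

theorem relfinrank_adjoin_root {K : Type u} [Field K] (N M : Subfield K) (a : K) (ha : a ^ p ∈ N)
    (hno : ∀ z ∈ N, z ^ p ≠ a ^ p) (hM : M = Subfield.closure ((N : Set K) ∪ {a})) :
    Subfield.relfinrank N M = p := by
  let I := IntermediateField.adjoin N ({a} : Set K)
  have hI : I.toSubfield = M := by
    rw [hM, IntermediateField.adjoin_toSubfield]
    congr 1
    congr 1
    exact Subtype.range_coe
  have hle : N ≤ M := by
    rw [hM]; exact fun z hz => Subfield.subset_closure (Or.inl hz)
  rw [Subfield.relfinrank_eq_finrank_of_le hle]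
  have hI' : Subfield.extendScalars hle = I := IntermediateField.toSubfield_injective hI.symm
  rw [hI']
  have hmin : minpoly N a = Polynomial.X ^ p - Polynomial.C (⟨a ^ p, ha⟩ : N) := by
    refine (minpoly.eq_of_irreducible_of_monic ?_ ?_ (Polynomial.monic_X_pow_sub_C _ hp.out.ne_zero)).symm
    · exact X_pow_sub_C_irreducible_of_prime hp.out fun b hb => hno b.1 b.2 (congrArg Subtype.val hb)
    · simp
      exact sub_self _
  have hint : IsIntegral N a := ⟨Polynomial.X ^ p - Polynomial.C (⟨a ^ p, ha⟩ : N),
    Polynomial.monic_X_pow_sub_C _ hp.out.ne_zero, by simp; exact sub_self _⟩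
  show Module.finrank N (IntermediateField.adjoin N {a}) = p
  rw [IntermediateField.adjoin.finrank hint, hmin, Polynomial.natDegree_X_pow_sub_C]

theorem finrank_frobenius {k : Type u} [Field k] [CharP k p] [PerfectRing k p]
    {K : Type u} [Field K] [Algebra (LaurentSeries k) K] [CharP K p] {d : ℕ} (x : Fin d → K)
    (hx : IsTranscendenceBasis (LaurentSeries k) x) (hfg : (⊤ : IntermediateField (LaurentSeries k) K).FG) :
    Module.finrank (frobenius K p).fieldRange K = p ^ (d + 1) := by
  haveI : ExpChar K p := .prime hp.out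
  set F := LaurentSeries k
  haveI : Infinite F := Infinite.of_injective (fun n : ℕ => (HahnSeries.single (n : ℤ) (1 : k) : F)) fun a b h => by
    have := congrArg HahnSeries.order h
    rwa [HahnSeries.order_single one_ne_zero, HahnSeries.order_single one_ne_zero, Nat.cast_inj] at this
  set φ : K →+* K := frobenius K p with hφ
  set L := IntermediateField.adjoin F (Set.range x) with hL
  set M := IntermediateField.adjoin F (Set.range fun i => x i ^ p) with hMd
  haveI hfin : FiniteDimensional L K := by
    haveI := hx.isAlgebraic_field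
    obtain ⟨t, ht⟩ := hfg
    haveI : Finite (t : Set K) := t.finite_toSet
    have htop : IntermediateField.adjoin L (t : Set K) = ⊤ := by
      apply IntermediateField.restrictScalars_injective F
      rw [IntermediateField.restrictScalars_top, eq_top_iff, ← ht]
      exact IntermediateField.adjoin_le_iff.2 (IntermediateField.subset_adjoin L _)
    haveI := IntermediateField.finiteDimensional_adjoin (K := L) (L := K) (S := (t : Set K))
      fun y _ => (Algebra.IsAlgebraic.isAlgebraic (R := L) y).isIntegral
    rw [htop] at this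
    exact IntermediateField.topEquiv.toLinearEquiv.finiteDimensional
  have hd : Subfield.relfinrank L.toSubfield ⊤ ≠ 0 := by
    rw [Subfield.relfinrank_top_right]
    exact (Module.finrank_pos (R := L) (M := K)).ne'
  let τ : K := algebraMap F K (lt k)
  have hLφmem : ∀ g : F, algebraMap F K g ^ p ∈ L.toSubfield.map φ := fun g =>
    Subfield.mem_map.2 ⟨algebraMap F K g, L.algebraMap_mem g, rfl⟩
  have hxφ : ∀ i, x i ^ p ∈ L.toSubfield.map φ := fun i =>
    Subfield.mem_map.2 ⟨x i, IntermediateField.subset_adjoin F _ ⟨i, rfl⟩, rfl⟩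
  have hLM : L.toSubfield.map φ ≤ M.toSubfield := by
    rw [hL, IntermediateField.adjoin_toSubfield, RingHom.map_field_closure, Subfield.closure_le]
    rintro _ ⟨y, ⟨g, rfl⟩ | ⟨i, rfl⟩, rfl⟩
    · exact pow_mem (M.algebraMap_mem g) p
    · exact IntermediateField.subset_adjoin F _ ⟨i, rfl⟩
  have hM : M.toSubfield = Subfield.closure ((L.toSubfield.map φ : Set K) ∪ {τ}) := by
    refine le_antisymm ?_ (Subfield.closure_le.mpr ?_)
    · rw [hMd, IntermediateField.adjoin_toSubfield, Subfield.closure_le]
      rintro _ (⟨g, rfl⟩ | ⟨i, rfl⟩)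
      · exact laurent_mem (p := p) (Subfield.closure ((L.toSubfield.map φ : Set K) ∪ {τ})) (fun g => Subfield.subset_closure (Or.inl (hLφmem g)))
          (Subfield.subset_closure (Or.inr (Set.mem_singleton τ))) g
      · exact Subfield.subset_closure (Or.inl (hxφ i))
    · rintro z (hz | rfl)
      · exact hLM hz
      · exact M.algebraMap_mem _
  have h1 : Subfield.relfinrank (L.toSubfield.map φ) M.toSubfield = p := by
    refine relfinrank_adjoin_root _ _ τ (hLφmem _) ?_ hM
    intro z hz e
    obtain ⟨y, hy, rfl⟩ := Subfield.mem_map.1 hz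
    have : φ y = τ := frobenius_inj K p e
    exact lt_not_pow_mem x hx.1 (lt k) (lt_ne_pow k) y hy this
  have h2 : Subfield.relfinrank M.toSubfield L.toSubfield = p ^ d := Groth.Agent.S11991.relfinrank_pow x hx.1 p
  have hML : M.toSubfield ≤ L.toSubfield := by
    show M ≤ L
    rw [hMd, IntermediateField.adjoin_le_iff]
    rintro _ ⟨i, rfl⟩
    exact pow_mem (IntermediateField.subset_adjoin F (Set.range x) ⟨i, rfl⟩) _
  have h3 : Subfield.relfinrank (L.toSubfield.map φ) L.toSubfield = p ^ (d + 1) := by
    rw [← Subfield.relfinrank_mul_relfinrank hLM hML, h1, h2, pow_succ']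
  have hle1 : L.toSubfield.map φ ≤ (⊤ : Subfield K).map φ := Subfield.map_le_iff_le_comap.2 fun y _ =>
    Subfield.mem_map.2 ⟨y, trivial, rfl⟩
  have h4 := (Subfield.relfinrank_mul_relfinrank hle1 le_top).trans
    (Subfield.relfinrank_mul_relfinrank (hLM.trans hML) le_top).symm
  rw [Subfield.relfinrank_map_map, h3, mul_comm (p ^ (d + 1))] at h4
  have h5 := mul_left_cancel₀ hd h4
  rw [Subfield.relfinrank_top_right, ← RingHom.fieldRange_eq_map] at h5
  exact h5

end Groth.Agent.H27Frob.PDegree
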