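import Groth.Agent.H27Frob.LiftCriterion
import Mathlib

/-! Frobenius lifts of complete intersections over `W₂(k)` (Frobenius residues). -/

set_option autoImplicit false
set_option linter.style.haveILetI false
universe u

open MvPolynomial

namespace Groth.Agent.H27Frob

variable (p : ℕ) [hp : Fact p.Prime] (k : Type u) [Field k] [CharP k p] [PerfectRing k p] {n : ℕ}

local notation "R'" => MvPolynomial (Fin n) (FrobAlg.W2 p k)

theorem sq_zero : (p : R') * p = 0 := natCast_sq_of_hom p k C

theorem p_mul_add_pow (a b : R') : (p : R') * (a + b) ^ p = (p : R') * a ^ p + (p : R') * b ^ p := by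
  rw [(Commute.all a b).add_pow_prime_eq hp.out, mul_add, mul_add]
  conv_lhs => arg 2; simp only [← mul_assoc, sq_zero p k, zero_mul]
  rw [add_zero]

theorem ker_map_res : RingHom.ker (MvPolynomial.map (σ := Fin n) (FrobAlg.res p k)) = Ideal.span {(p : R')} := by
  rw [MvPolynomial.ker_map, ker_res, Ideal.map_span, Set.image_singleton, map_natCast]

theorem polyFrob_sub_pow_mem (g : R') : FrobAlg.polyFrob p k (Fin n) g - g ^ p ∈ Ideal.span {(p : R')} := by
  rw [← ker_map_res, RingHom.mem_ker, map_sub, map_pow, sub_eq_zero]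
  have h : (MvPolynomial.map (FrobAlg.res p k)).comp (FrobAlg.polyFrob p k (Fin n)) =
      (_root_.frobenius (MvPolynomial (Fin n) k) p).comp (MvPolynomial.map (FrobAlg.res p k)) := by
    apply MvPolynomial.ringHom_ext
    · intro c
      rw [RingHom.comp_apply, RingHom.comp_apply, map_C, FrobAlg.polyFrob, eval₂Hom_C, RingHom.comp_apply,
        map_C, _root_.frobenius_def, ← map_pow, res_sigma']
    · intro i
      simp [FrobAlg.polyFrob, _root_.frobenius_def]
  exact congr($h g)
where
  res_sigma' {c : FrobAlg.W2 p k} : FrobAlg.res p k (FrobAlg.sigma p k c) = FrobAlg.res p k c ^ p := by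
    rw [FrobAlg.res_apply, FrobAlg.res_apply, WittGrp.coeff_frob]

theorem p_mul_polyFrob (g : R') : (p : R') * FrobAlg.polyFrob p k (Fin n) g = (p : R') * g ^ p := by
  obtain ⟨c, hc⟩ := Ideal.mem_span_singleton'.mp (polyFrob_sub_pow_mem p k g)
  have := sq_zero p k (n := n)
  linear_combination -(p : R') * hc + c * this

/-- The endomorphism `C ∘ σ`, `X j ↦ X j ^ p + p h j`. -/
noncomputable def twist (h : Fin n → R') : R' →+* R' :=
  eval₂Hom (C.comp (FrobAlg.sigma p k)) fun j => X j ^ p + (p : R') * h j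

theorem twist_eq (h : Fin n → R') (g : R') :
    twist p k h g = FrobAlg.polyFrob p k (Fin n) g + (p : R') * ∑ j, pderiv j g ^ p * h j := by
  classical
  induction g using MvPolynomial.induction_on with
  | C c => simp [twist, FrobAlg.polyFrob, zero_pow hp.out.ne_zero]
  | add a b ha hb =>
    rw [map_add, map_add, ha, hb]
    simp only [map_add, Finset.mul_sum]
    rw [add_add_add_comm, ← Finset.sum_add_distrib]
    congr 1
    refine Finset.sum_congr rfl fun j _ => ?_
    rw [← mul_assoc, ← mul_assoc, ← mul_assoc, ← add_mul, p_mul_add_pow]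
  | mul_X g i hg =>
    rw [map_mul, map_mul, hg, show twist p k h (X i) = X i ^ p + (p : R') * h i by simp [twist],
      show FrobAlg.polyFrob p k (Fin n) (X i) = X i ^ p by simp [FrobAlg.polyFrob]]
    have hsum : (p : R') * ∑ j, pderiv j (g * X i) ^ p * h j =
        (p : R') * (X i ^ p * ∑ j, pderiv j g ^ p * h j) + (p : R') * (g ^ p * h i) := by
      simp only [Finset.mul_sum]
      rw [show (p : R') * (g ^ p * h i) = ∑ j, (p : R') * ((g * pderiv j (X i)) ^ p * h j) by
        rw [Finset.sum_eq_single i]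
        · simp
        · intro b _ hb
          simp [pderiv_X, Pi.single_apply, Ne.symm hb, zero_pow hp.out.ne_zero]
        · simp, ← Finset.sum_add_distrib]
      refine Finset.sum_congr rfl fun j _ => ?_
      rw [pderiv_mul, ← mul_assoc, p_mul_add_pow, mul_pow]
      ring
    rw [hsum]
    have h1 := p_mul_polyFrob p k g
    have h2 := sq_zero p k (n := n)
    linear_combination h i * h1 + ((∑ j, pderiv j g ^ p * h j) * h i) * h2

theorem frobLift_iff {m : ℕ} (f' : Fin m → R')
    (hflat : ((Ideal.Quotient.mk (Ideal.span (Set.range f'))).comp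
      (MvPolynomial.C : FrobAlg.W2 p k →+* R')).Flat) :
    (∃ Φ : (R' ⧸ Ideal.span (Set.range f')) →+* (R' ⧸ Ideal.span (Set.range f')),
      Φ.comp ((Ideal.Quotient.mk (Ideal.span (Set.range f'))).comp MvPolynomial.C) =
        ((Ideal.Quotient.mk (Ideal.span (Set.range f'))).comp MvPolynomial.C).comp (FrobAlg.sigma p k) ∧
      ∀ b, Ideal.quotientMap ((Ideal.span (Set.range f')).map (MvPolynomial.map (FrobAlg.res p k)))
          (MvPolynomial.map (FrobAlg.res p k)) Ideal.le_comap_map (Φ b) =
        (Ideal.quotientMap ((Ideal.span (Set.range f')).map (MvPolynomial.map (FrobAlg.res p k)))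
          (MvPolynomial.map (FrobAlg.res p k)) Ideal.le_comap_map b) ^ p) ↔
    ∃ h : Fin n → R', ∀ i,
      FrobAlg.polyFrob p k (Fin n) (f' i) - f' i ^ p - (p : R') * ∑ j, pderiv j (f' i) ^ p * h j
        ∈ Ideal.span {(p : R')} * Ideal.span (Set.range f') := by
  classical
  set J := Ideal.span (Set.range f')
  set q := Ideal.quotientMap (J.map (MvPolynomial.map (FrobAlg.res p k))) (MvPolynomial.map (FrobAlg.res p k))
    Ideal.le_comap_map
  haveI : Module.Flat (FrobAlg.W2 p k) R' := inferInstance
  have hinf : Ideal.span {(p : R')} ⊓ J = Ideal.span {(p : R')} * J := by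
    refine (flat_quotient_W2_iff p k R' J).mp ?_
    exact RingHom.flat_algebraMap_iff.mp hflat
  have hker : ∀ x, q (Ideal.Quotient.mk J x) = 0 → ∃ j ∈ J, x - j ∈ Ideal.span {(p : R')} := by
    intro x hx
    rw [Ideal.quotientMap_mk, Ideal.Quotient.eq_zero_iff_mem,
      Ideal.mem_map_iff_of_surjective _ (MvPolynomial.map_surjective _ (res_surjective p k))] at hx
    obtain ⟨j, hj, he⟩ := hx
    refine ⟨j, hj, ?_⟩
    rw [← ker_map_res, RingHom.mem_ker, map_sub, he, sub_self]
  constructor
  · rintro ⟨Φ, hΦ, hred⟩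
    have hex : ∀ j, ∃ h0, Φ (Ideal.Quotient.mk J (X j)) = Ideal.Quotient.mk J (X j ^ p + (p : R') * h0) := by
      intro j
      obtain ⟨y, hy⟩ := Ideal.Quotient.mk_surjective (Φ (Ideal.Quotient.mk J (X j)))
      have h0 : q (Ideal.Quotient.mk J (y - X j ^ p)) = 0 := by
        rw [map_sub, map_sub, hy, map_pow, map_pow, hred, sub_self]
      obtain ⟨j', hj', hx⟩ := hker _ h0
      obtain ⟨c, hc⟩ := Ideal.mem_span_singleton'.mp hx
      refine ⟨c, ?_⟩
      rw [← hy, Ideal.Quotient.eq]
      have : y - (X j ^ p + (p : R') * c) = j' := by linear_combination -hc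
      rw [this]
      exact hj'
    choose h0 hh0 using hex
    have hG : Φ.comp (Ideal.Quotient.mk J) = (Ideal.Quotient.mk J).comp (twist p k h0) := by
      apply MvPolynomial.ringHom_ext
      · intro c
        simp only [RingHom.comp_apply, twist, eval₂Hom_C]
        exact congr($hΦ c)
      · intro j
        simp only [RingHom.comp_apply, twist, eval₂Hom_X']
        exact hh0 j
    refine ⟨fun j => -h0 j, fun i => ?_⟩
    rw [← hinf]
    refine ⟨?_, ?_⟩
    · exact sub_mem (polyFrob_sub_pow_mem p k _) (Ideal.mul_mem_right _ _ (Ideal.mem_span_singleton_self _))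
    · have h1 : twist p k h0 (f' i) ∈ J := by
        rw [← Ideal.Quotient.eq_zero_iff_mem, ← RingHom.comp_apply, ← hG, RingHom.comp_apply,
          Ideal.Quotient.eq_zero_iff_mem.mpr (show f' i ∈ J from Ideal.subset_span ⟨i, rfl⟩), map_zero]
      have h2 : f' i ^ p ∈ J := J.pow_mem_of_mem (Ideal.subset_span ⟨i, rfl⟩) p hp.out.pos
      rw [twist_eq] at h1
      have e : FrobAlg.polyFrob p k (Fin n) (f' i) - f' i ^ p - (p : R') * ∑ j, pderiv j (f' i) ^ p * -h0 j =
          (FrobAlg.polyFrob p k (Fin n) (f' i) + (p : R') * ∑ j, pderiv j (f' i) ^ p * h0 j) - f' i ^ p := by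
        simp only [mul_neg, Finset.sum_neg_distrib]
        ring
      rw [SetLike.mem_coe, e]
      exact J.sub_mem h1 h2
  · rintro ⟨h, hh⟩
    let G := twist p k fun j => -h j
    have hGJ : J ≤ J.comap G := by
      refine Ideal.span_le.mpr ?_
      rintro _ ⟨i, rfl⟩
      have h1 : _ ∈ J := Ideal.mul_le_right (hh i)
      have h2 : f' i ^ p ∈ J := J.pow_mem_of_mem (Ideal.subset_span ⟨i, rfl⟩) p hp.out.pos
      rw [SetLike.mem_coe, Ideal.mem_comap, twist_eq]
      have e : FrobAlg.polyFrob p k (Fin n) (f' i) + (p : R') * ∑ j, pderiv j (f' i) ^ p * -h j =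
          (FrobAlg.polyFrob p k (Fin n) (f' i) - f' i ^ p - (p : R') * ∑ j, pderiv j (f' i) ^ p * h j) + f' i ^ p := by
        simp only [mul_neg, Finset.sum_neg_distrib]
        ring
      rw [e]
      exact J.add_mem h1 h2
    refine ⟨Ideal.quotientMap J G hGJ, RingHom.ext fun c => ?_, fun b => ?_⟩
    · simp only [RingHom.comp_apply, Ideal.quotientMap_mk, G, twist, eval₂Hom_C]
    · obtain ⟨g, rfl⟩ := Ideal.Quotient.mk_surjective b
      have hG : G g - g ^ p ∈ Ideal.span {(p : R')} := by
        simp only [G]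
        rw [twist_eq, add_sub_right_comm]
        exact add_mem (polyFrob_sub_pow_mem p k g) (Ideal.mul_mem_right _ _ (Ideal.mem_span_singleton_self _))
      rw [← ker_map_res, RingHom.mem_ker, map_sub, map_pow, sub_eq_zero] at hG
      rw [Ideal.quotientMap_mk, Ideal.quotientMap_mk, Ideal.quotientMap_mk, hG, map_pow]

theorem sum_mem_of_isRegular {m : ℕ} (f : Fin m → MvPolynomial (Fin n) k) (f' : Fin m → R')
    (hf : ∀ i, MvPolynomial.map (FrobAlg.res p k) (f' i) = f i)
    (hreg : RingTheory.Sequence.IsRegular (MvPolynomial (Fin n) k) (List.ofFn f)) (l : ℕ) (hl : l ≤ m)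
    (c : Fin m → R') (hc : ∀ i : Fin m, l ≤ i → c i = 0) (hs : ∑ i, c i * f' i ∈ Ideal.span {(p : R')}) :
    ∑ i, c i * f' i ∈ Ideal.span {(p : R')} * Ideal.span (Set.range f') := by
  classical
  induction l generalizing c with
  | zero => simp [fun i => hc i (Nat.zero_le _)]
  | succ l ih =>
    let cb : Fin m → MvPolynomial (Fin n) k := fun i => MvPolynomial.map (FrobAlg.res p k) (c i)
    have hsum : ∑ i, cb i * f i = 0 := by
      rw [← ker_map_res, RingHom.mem_ker, map_sum] at hs
      simpa [cb, hf] using hs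
    let i₀ : Fin m := ⟨l, hl⟩
    have hz : ∀ i : Fin m, l < i → cb i = 0 := fun i hi => by simp [cb, hc i hi]
    have hlen : l < (List.ofFn f).length := by simpa using hl
    have hreg' := (RingTheory.Sequence.isWeaklyRegular_iff _ _).mp hreg.toIsWeaklyRegular l hlen
    have hideal : Ideal.ofList ((List.ofFn f).take l) =
        Ideal.span (Set.range fun i : Fin l => f (Fin.castLE (by omega) i)) := by
      rw [Ideal.ofList]
      congr 1
      ext x
      simp only [Set.mem_setOf_eq, Set.mem_range, List.mem_take_iff_getElem, List.getElem_ofFn]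
      constructor
      · rintro ⟨i, hi, rfl⟩
        exact ⟨⟨i, by simp at hi; omega⟩, rfl⟩
      · rintro ⟨i, rfl⟩
        exact ⟨i, by simp; omega, rfl⟩
    have hmem : cb i₀ * f i₀ ∈ Ideal.ofList ((List.ofFn f).take l) := by
      rw [hideal, show cb i₀ * f i₀ = -∑ i ∈ Finset.univ.erase i₀, cb i * f i by
        rw [eq_neg_iff_add_eq_zero, Finset.add_sum_erase _ (fun i => cb i * f i) (Finset.mem_univ i₀), hsum]]
      refine neg_mem (Ideal.sum_mem _ fun i hi => ?_)
      rcases lt_trichotomy (i : ℕ) l with h | h | h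
      · exact Ideal.mul_mem_left _ _ (Ideal.subset_span ⟨⟨i, h⟩, rfl⟩)
      · exact absurd (Fin.ext h) (Finset.ne_of_mem_erase hi)
      · rw [hz i h, zero_mul]
        exact zero_mem _
    have hcb : cb i₀ ∈ Ideal.ofList ((List.ofFn f).take l) := by
      have h0 := hreg'.right_eq_zero_of_smul
        (x := Submodule.Quotient.mk (p := Ideal.ofList ((List.ofFn f).take l) • (⊤ : Submodule _ (MvPolynomial (Fin n) k))) (cb i₀))
        (by
          rw [← Submodule.Quotient.mk_smul, Submodule.Quotient.mk_eq_zero, Ideal.smul_eq_mul, Ideal.mul_top,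
            List.getElem_ofFn, smul_eq_mul, mul_comm]
          exact hmem)
      rwa [Submodule.Quotient.mk_eq_zero, Ideal.smul_eq_mul, Ideal.mul_top] at h0
    rw [hideal, Ideal.mem_span_range_iff_exists_fun] at hcb
    obtain ⟨s, hs'⟩ := hcb
    choose S hS using fun i : Fin l => MvPolynomial.map_surjective (FrobAlg.res p k) (res_surjective p k) (s i)
    let S' : Fin m → R' := fun i => if h : (i : ℕ) < l then S ⟨i, h⟩ else 0
    have hS' : ∑ i, S' i * f' i = ∑ i : Fin l, S i * f' (Fin.castLE (by omega) i) := by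
      refine (Fintype.sum_of_injective (Fin.castLE (by omega : l ≤ m)) (Fin.castLE_injective _) _ _ ?_ ?_).symm
      · intro i hi
        have : ¬ (i : ℕ) < l := fun h => hi ⟨⟨i, h⟩, rfl⟩
        simp [S', this]
      · intro i
        simp [S']
    have hd : c i₀ - ∑ i, S' i * f' i ∈ Ideal.span {(p : R')} := by
      rw [← ker_map_res, RingHom.mem_ker, map_sub, sub_eq_zero, hS', map_sum]
      simpa [hf, hS] using hs'.symm
    obtain ⟨d, hd⟩ := Ideal.mem_span_singleton'.mp hd
    let c' : Fin m → R' := fun i => if i = i₀ then 0 else c i + S' i * f' i₀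
    have hpJ : (p : R') * (d * f' i₀) ∈ Ideal.span {(p : R')} * Ideal.span (Set.range f') :=
      Ideal.mul_mem_mul (Ideal.mem_span_singleton_self _) (Ideal.mul_mem_left _ _ (Ideal.subset_span ⟨i₀, rfl⟩))
    have hS0 : S' i₀ = 0 := by simp [S', i₀]
    have e : ∑ i, c i * f' i = ∑ i, c' i * f' i + (p : R') * (d * f' i₀) := by
      have h2 : ∀ i, c' i * f' i = c i * f' i + S' i * f' i * f' i₀ - (if i = i₀ then c i₀ * f' i₀ else 0) := by
        intro i
        by_cases h : i = i₀
        · subst h; simp [c', hS0]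
        · simp [c', h]; ring
      simp only [h2, Finset.sum_sub_distrib, Finset.sum_add_distrib, Finset.sum_ite_eq', Finset.mem_univ, if_true,
        ← Finset.sum_mul]
      linear_combination -(f' i₀) * hd
    rw [e] at hs ⊢
    refine add_mem (ih (by omega) c' (fun i hi => ?_) ?_) hpJ
    · rcases eq_or_lt_of_le hi with h | h
      · simp [c', show i = i₀ from Fin.ext h.symm]
      · have : i ≠ i₀ := fun h' => by rw [h'] at h; exact lt_irrefl _ h
        simp [c', this, hc i h, S', show ¬ (i : ℕ) < l by omega]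
    · exact (Ideal.add_mem_iff_left _ (Ideal.mul_le_inf hpJ).1).mp hs

theorem isFLiftable_completeIntersection_iff {m : ℕ} (f : Fin m → MvPolynomial (Fin n) k)
    (hreg : RingTheory.Sequence.IsRegular (MvPolynomial (Fin n) k) (List.ofFn f)) :
    FrobAlg.IsFLiftable p k (MvPolynomial (Fin n) k ⧸ Ideal.span (Set.range f)) ↔
    ∃ (f' : Fin m → R') (h : Fin n → R'), (∀ i, MvPolynomial.map (FrobAlg.res p k) (f' i) = f i) ∧
      ∀ i, FrobAlg.polyFrob p k (Fin n) (f' i) - f' i ^ p - (p : R') * ∑ j, pderiv j (f' i) ^ p * h j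
        ∈ Ideal.span {(p : R')} * Ideal.span (Set.range f') := by
  classical
  haveI : Module.Flat (FrobAlg.W2 p k) R' := inferInstance
  let rm := MvPolynomial.map (σ := Fin n) (FrobAlg.res p k)
  have hmap : ∀ f' : Fin m → R', (∀ i, rm (f' i) = f i) →
      (Ideal.span (Set.range f')).map rm = Ideal.span (Set.range f) := by
    intro f' hf
    rw [Ideal.map_span, ← Set.range_comp]
    congr 2
    ext i
    simp [hf]
  constructor
  · rintro ⟨B, _, ι, π, Φ, hB⟩
    choose X' hX' using fun i : Fin n => hB.surj (Ideal.Quotient.mk _ (X i))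
    let g : R' →+* B := eval₂Hom ι X'
    have hg : π.comp g = (Ideal.Quotient.mk (Ideal.span (Set.range f))).comp rm := by
      apply MvPolynomial.ringHom_ext
      · intro c
        simp only [g, rm, RingHom.comp_apply, eval₂Hom_C, map_C]
        exact congr($(hB.comm) c)
      · intro i
        simp [g, rm, hX']
    have hsurj₁ : ∀ b, ∃ r c, b = g r + (p : B) * c := by
      intro b
      obtain ⟨r, hr⟩ := Ideal.Quotient.mk_surjective (π b)
      obtain ⟨r', rfl⟩ := MvPolynomial.map_surjective (σ := Fin n) (FrobAlg.res p k) (res_surjective p k) r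
      obtain ⟨c, hc⟩ := IsLift_ker_dvd p k hB.toIsLift (b := b - g r') (by
        rw [map_sub, ← RingHom.comp_apply π g, hg, RingHom.comp_apply, hr, sub_self])
      exact ⟨r', c, by linear_combination hc⟩
    have hsurj : Function.Surjective g := by
      intro b
      obtain ⟨r, c, rfl⟩ := hsurj₁ b
      obtain ⟨r', c', rfl⟩ := hsurj₁ c
      refine ⟨r + (p : R') * r', ?_⟩
      rw [map_add, map_mul, map_natCast]
      linear_combination -c' * (natCast_sq_of_hom p k ι)
    have hlift : ∀ i, ∃ F, rm F = f i ∧ g F = 0 := by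
      intro i
      obtain ⟨F, hF⟩ := MvPolynomial.map_surjective (σ := Fin n) (FrobAlg.res p k) (res_surjective p k) (f i)
      obtain ⟨c, hc⟩ := IsLift_ker_dvd p k hB.toIsLift (b := g F) (by
        rw [← RingHom.comp_apply π g, hg, RingHom.comp_apply, show rm F = f i from hF,
          Ideal.Quotient.eq_zero_iff_mem.mpr (show f i ∈ Ideal.span (Set.range f) from Ideal.subset_span ⟨i, rfl⟩)])
      obtain ⟨r, rfl⟩ := hsurj c
      refine ⟨F - (p : R') * r, ?_, by rw [map_sub, map_mul, map_natCast, hc, sub_self]⟩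
      rw [map_sub, map_mul, map_natCast, CharP.cast_eq_zero, zero_mul, sub_zero]
      exact hF
    choose f' hf' hgf' using hlift
    set J := Ideal.span (Set.range f')
    have hker : RingHom.ker g = J := by
      refine le_antisymm (fun x hx => ?_) (Ideal.span_le.mpr (by rintro _ ⟨i, rfl⟩; exact hgf' i))
      have hmod : ∀ y, π (g y) = 0 → ∃ j ∈ J, y - j ∈ Ideal.span {(p : R')} := by
        intro y hy
        rw [← RingHom.comp_apply, hg, RingHom.comp_apply, Ideal.Quotient.eq_zero_iff_mem, ← hmap f' hf',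
          Ideal.mem_map_iff_of_surjective _ (MvPolynomial.map_surjective _ (res_surjective p k))] at hy
        obtain ⟨j, hj, he⟩ := hy
        refine ⟨j, hj, ?_⟩
        rw [← ker_map_res, RingHom.mem_ker, map_sub, sub_eq_zero]
        exact he.symm
      obtain ⟨j, hj, hx1⟩ := hmod x (by rw [RingHom.mem_ker.mp hx, map_zero])
      obtain ⟨y, hy⟩ := Ideal.mem_span_singleton'.mp hx1
      have hgj : g j = 0 := (Ideal.span_le.mpr (by rintro _ ⟨i, rfl⟩; exact hgf' i) : J ≤ RingHom.ker g) hj
      have hpy : (p : B) * g y = 0 := by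
        have := congrArg g hy
        rw [map_mul, map_natCast, map_sub, RingHom.mem_ker.mp hx, hgj, sub_self] at this
        rw [mul_comm]; exact this
      obtain ⟨j', hj', hy1⟩ := hmod y (IsLift_ann p k hB.toIsLift hpy)
      obtain ⟨z, hz⟩ := Ideal.mem_span_singleton'.mp hy1
      have hx' : x = j + (p : R') * j' := by
        linear_combination -hy - (p : R') * hz + z * (sq_zero p k (n := n))
      rw [hx']
      exact add_mem hj (Ideal.mul_mem_left _ _ hj')
    let e : (R' ⧸ J) ≃+* B := (Ideal.quotEquivOfEq hker.symm).trans (RingHom.quotientKerEquivOfSurjective hsurj)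
    have he : ∀ x, e (Ideal.Quotient.mk J x) = g x := fun x => rfl
    have heι : e.toRingHom.comp ((Ideal.Quotient.mk J).comp C) = ι := RingHom.ext fun c => by
      show e (Ideal.Quotient.mk J (C c)) = ι c
      rw [he]
      exact eval₂Hom_C _ _ _
    have hflat : ((Ideal.Quotient.mk J).comp (C : FrobAlg.W2 p k →+* R')).Flat := by
      have : (Ideal.Quotient.mk J).comp C = e.symm.toRingHom.comp ι := by
        rw [← heι, ← RingHom.comp_assoc]
        simp
      rw [this]
      exact RingHom.Flat.comp hB.flat (RingHom.Flat.of_bijective e.symm.bijective)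
    let q : (R' ⧸ J) →+* MvPolynomial (Fin n) k ⧸ J.map rm := Ideal.quotientMap _ rm Ideal.le_comap_map
    let eA := Ideal.quotEquivOfEq (hmap f' hf')
    have hq : ∀ z, π (e z) = eA (q z) := by
      intro z
      obtain ⟨x, rfl⟩ := Ideal.Quotient.mk_surjective z
      rw [he, ← RingHom.comp_apply π g, hg]
      rfl
    obtain ⟨h, hh⟩ := (frobLift_iff p k f' hflat).mp ⟨e.symm.toRingHom.comp (Φ.comp e.toRingHom),
      RingHom.ext fun c => by
        show e.symm (Φ (e (Ideal.Quotient.mk J (C c)))) = _
        rw [RingEquiv.symm_apply_eq]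
        show Φ (e.toRingHom.comp ((Ideal.Quotient.mk J).comp C) c) =
          e.toRingHom.comp ((Ideal.Quotient.mk J).comp C) (FrobAlg.sigma p k c)
        rw [heι]
        exact congr($(hB.semi) c),
      fun b => by
        apply eA.injective
        show eA (q (e.symm (Φ (e b)))) = eA (q b ^ p)
        rw [map_pow eA, ← hq, ← hq, RingEquiv.apply_symm_apply, hB.red]⟩
    exact ⟨f', h, hf', hh⟩
  · rintro ⟨f', h, hf', hh⟩
    set J := Ideal.span (Set.range f')
    have hflat : ((Ideal.Quotient.mk J).comp (C : FrobAlg.W2 p k →+* R')).Flat := by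
      have hinf : Ideal.span {(p : R')} ⊓ J = Ideal.span {(p : R')} * J := by
        refine le_antisymm (fun x hx => ?_) Ideal.mul_le_inf
        obtain ⟨c, rfl⟩ := Ideal.mem_span_range_iff_exists_fun.mp hx.2
        exact sum_mem_of_isRegular p k f f' hf' hreg m le_rfl c (fun i hi => absurd i.2 (not_lt.mpr hi)) hx.1
      exact RingHom.flat_algebraMap_iff.mpr ((flat_quotient_W2_iff p k R' J).mpr hinf)
    obtain ⟨Φ, hΦ, hred⟩ := (frobLift_iff p k f' hflat).mpr ⟨h, hh⟩
    let q : (R' ⧸ J) →+* MvPolynomial (Fin n) k ⧸ J.map rm := Ideal.quotientMap _ rm Ideal.le_comap_map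
    let eA := Ideal.quotEquivOfEq (hmap f' hf')
    refine ⟨R' ⧸ J, inferInstance, (Ideal.Quotient.mk J).comp C, eA.toRingHom.comp q, Φ,
      ⟨⟨hflat, ?_, ?_, ?_⟩, hΦ, fun b => ?_⟩⟩
    · refine eA.surjective.comp ?_
      intro z
      obtain ⟨x, rfl⟩ := Ideal.Quotient.mk_surjective z
      obtain ⟨y, rfl⟩ := MvPolynomial.map_surjective (σ := Fin n) (FrobAlg.res p k) (res_surjective p k) x
      exact ⟨Ideal.Quotient.mk J y, rfl⟩
    · conv_rhs => rw [ker_res, Ideal.map_span, Set.image_singleton, map_natCast]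
      refine le_antisymm (fun z hz => ?_) ?_
      · obtain ⟨x, rfl⟩ := Ideal.Quotient.mk_surjective z
        have hx : rm x ∈ J.map rm := Ideal.Quotient.eq_zero_iff_mem.mp (eA.injective (hz.trans (map_zero eA).symm))
        obtain ⟨j, hj, he⟩ := (Ideal.mem_map_iff_of_surjective _
          (MvPolynomial.map_surjective _ (res_surjective p k))).mp hx
        obtain ⟨c, hc⟩ := Ideal.mem_span_singleton'.mp (show x - j ∈ Ideal.span {(p : R')} by
          rw [← ker_map_res, RingHom.mem_ker, map_sub, sub_eq_zero]; exact he.symm)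
        refine Ideal.mem_span_singleton'.mpr ⟨Ideal.Quotient.mk J c, ?_⟩
        rw [← map_natCast (Ideal.Quotient.mk J), ← map_mul, Ideal.Quotient.eq, hc]
        simpa using J.neg_mem hj
      · rw [Ideal.span_singleton_le_iff_mem, RingHom.mem_ker, map_natCast, IsLift_map_natCast p k]
    · refine RingHom.ext fun c => ?_
      show eA (Ideal.Quotient.mk _ (rm (C c))) = _
      simp only [rm, map_C]
      rfl
    · show eA (q (Φ b)) = eA (q b) ^ p
      rw [← map_pow eA]
      exact congrArg eA (hred b)

end Groth.Agent.H27Frob
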