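import Groth.Agent.H27Perf.Ring
import Mathlib

/-!
# Small facts about Frobenius
-/

set_option autoImplicit false
universe u v w

namespace Groth.Agent.H27Frob

open Groth.Agent.H27Perf

variable {p : ℕ} [hp : Fact p.Prime]

theorem perfection_coeff_add_pow (A : Type u) [CommRing A] [CharP A p] (f : Perfection A p) (n k : ℕ) :
    Perfection.coeff A p (n + k) f ^ p ^ k = Perfection.coeff A p n f := by
  induction k with
  | zero => simp
  | succ k ih => rw [pow_succ', pow_mul, ← add_assoc, Perfection.coeff_pow_p', ih]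

theorem perfection_map_quotient_nilradical_bijective (A : Type u) [CommRing A] [CharP A p]
    [CharP (A ⧸ nilradical A) p] (e : ℕ) (he : ∀ x ∈ nilradical A, x ^ p ^ e = 0) :
    Function.Bijective (Perfection.map p (Ideal.Quotient.mk (nilradical A))) := by
  have h0 : (p : A) = 0 := CharP.cast_eq_zero A p
  refine ⟨(injective_iff_map_eq_zero _).mpr fun f hf => Perfection.ext fun n => ?_, fun g => ?_⟩
  · rw [map_zero, ← perfection_coeff_add_pow A f n e]
    apply he
    rw [← Ideal.Quotient.eq_zero_iff_mem, ← Perfection.coeff_map, hf, map_zero]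
  · choose a ha using fun n => Ideal.Quotient.mk_surjective (Perfection.coeff _ p n g)
    have hmod : ∀ n, a (n + 1) ^ p - a n ∈ nilradical A := fun n => by
      rw [← Ideal.Quotient.eq_zero_iff_mem, map_sub, map_pow, ha, ha, Perfection.coeff_pow_p', sub_self]
    refine ⟨⟨fun n => a (n + e) ^ p ^ e, fun n => ?_⟩, Perfection.ext fun n => ?_⟩
    · have := he _ (hmod (n + e))
      rw [sub_pow' h0, sub_eq_zero, ← pow_mul] at this
      simp only []
      rw [← this, ← pow_mul, mul_comm p, add_right_comm]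
    · rw [Perfection.coeff_map]
      change Ideal.Quotient.mk _ (a (n + e) ^ p ^ e) = _
      rw [map_pow, ha, perfection_coeff_add_pow]

theorem fixed_iff_mem_primeField_span (k : Type u) [Field k] [CharP k p] [PerfectRing k p]
    (V : Type v) [AddCommGroup V] [Module k V]
    (φ : V →ₛₗ[((frobeniusEquiv k p).symm : k →+* k)] V)
    {ι : Type w} [Fintype ι] (b : Module.Basis ι k V) (hb : ∀ i, φ (b i) = b i) (v : V) :
    φ v = v ↔ ∃ c : ι → ZMod p, v = ∑ i, (ZMod.castHom (dvd_refl p) k (c i)) • b i := by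
  have hφ : ∀ w : V, φ w = ∑ i, (frobeniusEquiv k p).symm (b.repr w i) • b i := fun w => by
    conv_lhs => rw [← b.sum_repr w]
    simp only [map_sum, LinearMap.map_smulₛₗ, hb]
    rfl
  constructor
  · intro hv
    have h : ∀ i, b.repr v i ∈ (⊥ : Subfield k) := fun i => by
      rw [Subfield.mem_bot_iff_pow_eq_self (F := k) (p := p)]
      have h1 : (frobeniusEquiv k p).symm (b.repr v i) = b.repr v i := by
        conv_rhs => rw [← hv, hφ v, b.repr_sum_self]
      conv_lhs => rw [← h1]
      exact frobeniusEquiv_symm_pow_p k p _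
    have h' : ∀ i, ∃ c : ZMod p, ZMod.castHom (dvd_refl p) k c = b.repr v i := fun i => by
      have hle : (⊥ : Subfield k) ≤ (ZMod.castHom (dvd_refl p) k).fieldRange := bot_le
      exact hle (h i)
    choose c hc using h'
    exact ⟨c, by simp only [hc, b.sum_repr]⟩
  · rintro ⟨c, rfl⟩
    simp only [map_sum, LinearMap.map_smulₛₗ, hb]
    refine Finset.sum_congr rfl fun i _ => ?_
    congr 1
    change (frobeniusEquiv k p).symm _ = _
    apply (frobeniusEquiv k p).injective
    rw [RingEquiv.apply_symm_apply, frobeniusEquiv_apply, frobenius_def, ← map_pow, ZMod.pow_card]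

variable (A : Type u) [CommRing A] (B : Type v) [CommRing B] [Algebra A B] (C : Type w) [CommRing C]
  [Algebra A C]

omit hp in
theorem pow_add_mul_natCast (h : (p : B) ^ 2 = 0) (u d : B) : (u + (p : B) * d) ^ p = u ^ p := by
  have h1 : (p : B) ^ 2 ∣ (u + (p : B) * d) ^ p - u ^ p := by
    have h2 := dvd_sub_pow_of_dvd_sub (R := B) (p := p) (a := u + (p : B) * d) (b := u)
      (by rw [add_sub_cancel_left]; exact dvd_mul_right _ _) 1
    simpa using h2
  rw [h, zero_dvd_iff, sub_eq_zero] at h1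
  exact h1

theorem algHom_eq_of_mem_adjoin (h : (p : B) ^ 2 = 0) (g₁ g₂ : C →ₐ[A] B)
    (hg : ∀ x : C, g₁ x - g₂ x ∈ Ideal.span ({(p : B)} : Set B)) (x y : C)
    (hy : y ∈ Algebra.adjoin A (Set.range fun c : C => c ^ p))
    (hxy : x - y ∈ Ideal.span ({(p : C)} : Set C)) : g₁ x = g₂ x := by
  have hy' : g₁ y = g₂ y := by
    refine (AlgHom.eqOn_adjoin_iff.mpr ?_) hy
    rintro _ ⟨c, rfl⟩
    obtain ⟨d, hd⟩ := Ideal.mem_span_singleton.mp (hg c)
    rw [map_pow, map_pow, sub_eq_iff_eq_add'.mp hd, pow_add_mul_natCast B h]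
  obtain ⟨t, ht⟩ := Ideal.mem_span_singleton.mp hxy
  obtain ⟨d, hd⟩ := Ideal.mem_span_singleton.mp (hg t)
  rw [sub_eq_iff_eq_add'.mp ht]
  simp only [map_add, map_mul, map_natCast, hy', sub_eq_iff_eq_add'.mp hd]
  rw [mul_add, ← mul_assoc, ← sq, h, zero_mul, add_zero]

theorem kaehlerD_map_eq_zero (h : (p : B) ^ 2 = 0) (g : C →ₐ[A] B)
    (hg : ∀ c : C, ∃ u ∈ Algebra.adjoin A (Set.range fun b : B => b ^ p),
      g c - u ∈ Ideal.span ({(p : B)} : Set B))
    (x y : C) (hy : y ∈ Algebra.adjoin A (Set.range fun c : C => c ^ p))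
    (hxy : x - y ∈ Ideal.span ({(p : C)} : Set C)) :
    KaehlerDifferential.D A B (g x) = 0 := by
  let D := KaehlerDifferential.D A B
  have hsq : ∀ ω, (p : B) • (p : B) • ω = (0 : Ω[B⁄A]) := fun ω => by
    rw [smul_smul, ← sq, h, zero_smul]
  have hmul : ∀ z : B, D ((p : B) * z) = (p : B) • D z := fun z => by
    rw [D.leibniz, D.map_natCast, smul_zero, add_zero]
  have hu : ∀ u ∈ Algebra.adjoin A (Set.range fun b : B => b ^ p), (p : B) • D u = 0 := by
    intro u hu
    induction hu using Algebra.adjoin_induction with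
    | mem z hz =>
      obtain ⟨b, rfl⟩ := hz
      rw [D.leibniz_pow, ← Nat.cast_smul_eq_nsmul B, hsq]
    | algebraMap r => rw [D.map_algebraMap, smul_zero]
    | add a b _ _ ha hb => rw [map_add, smul_add, ha, hb, add_zero]
    | mul a b _ _ ha hb => rw [D.leibniz, smul_add, smul_comm, hb, smul_zero, smul_comm, ha,
        smul_zero, add_zero]
  have hgp : ∀ c, (p : B) • D (g c) = 0 := fun c => by
    obtain ⟨u, hu', hd⟩ := hg c
    obtain ⟨d, hd⟩ := Ideal.mem_span_singleton.mp hd
    rw [sub_eq_iff_eq_add'.mp hd, map_add, smul_add, hu u hu', hmul, hsq, add_zero]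
  have hgy : D (g y) = 0 := by
    clear hxy
    induction hy using Algebra.adjoin_induction with
    | mem z hz =>
      obtain ⟨c, rfl⟩ := hz
      rw [map_pow, D.leibniz_pow, ← Nat.cast_smul_eq_nsmul B, smul_comm, hgp, smul_zero]
    | algebraMap r => rw [g.commutes, D.map_algebraMap]
    | add a b _ _ ha hb => rw [map_add, map_add, ha, hb, add_zero]
    | mul a b _ _ ha hb => rw [map_mul, D.leibniz, ha, hb, smul_zero, smul_zero, add_zero]
  obtain ⟨t, ht⟩ := Ideal.mem_span_singleton.mp hxy
  change D (g x) = 0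
  rw [sub_eq_iff_eq_add'.mp ht]
  simp only [map_add, map_mul, map_natCast, hgy, hmul, hgp, add_zero]

end Groth.Agent.H27Frob
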