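import Groth.Agent.H27Frob.Etale
import Mathlib

/-!
# The relative Frobenius along an étale map, and of smooth algebras
-/

set_option autoImplicit false
universe u

open TensorProduct FrobAlg

namespace Groth.Agent.H27Frob

open Groth.Agent.H27Perf

/-- An étale map that factors through a pushout by a radicial map exhibits the target as that
pushout. -/
theorem pushout_bijective (p : ℕ) [hp : Fact p.Prime] {R S T C : Type u} [CommRing R] [CommRing S]
    [CommRing T] [CommRing C] [Algebra R S] [Algebra R T] (l : S →+* C) (r : T →+* C)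
    (hcomm : l.comp (algebraMap R S) = r.comp (algebraMap R T)) [Algebra.Etale R S] (hr : r.Etale)
    (hp0 : (p : S) = 0) (hl : PRad p l) (hl' : ∀ s, l s = 0 → s ^ p = 0)
    (hT : ∀ t : T, ∃ x : R, t ^ p = algebraMap R T x) :
    ∃ g : S ⊗[R] T →+* C, Function.Bijective g ∧ (∀ s, g (s ⊗ₜ 1) = l s) ∧ (∀ t, g (1 ⊗ₜ t) = r t) := by
  algebraize [r.comp (algebraMap R T)]
  let l' : S →ₐ[R] C := { toRingHom := l, commutes' := fun x => congr($hcomm x) }
  let r' : T →ₐ[R] C := { toRingHom := r, commutes' := fun x => rfl }
  let g : S ⊗[R] T →+* C := (Algebra.TensorProduct.lift l' r' (fun _ _ => Commute.all _ _)).toRingHom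
  have gl : ∀ s, g (s ⊗ₜ 1) = l s := fun s => by simp [g, l', r']
  have gr : ∀ t, g (1 ⊗ₜ t) = r t := fun t => by simp [g, l', r']
  refine ⟨g, ?_, gl, gr⟩
  have h1 : ((Algebra.TensorProduct.comm R T S).toRingEquiv.toRingHom.comp
      (algebraMap T (T ⊗[R] S))).Etale :=
    RingHom.Etale.respectsIso.1 _ _ (RingHom.etale_algebraMap.mpr inferInstance)
  have h2 : (g.comp ((Algebra.TensorProduct.comm R T S).toRingEquiv.toRingHom.comp
      (algebraMap T (T ⊗[R] S)))).Etale := by
    convert hr
    exact RingHom.ext fun t => gr t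
  have h3 : g.Etale := etale_of_comp _ _ h1 h2
  have hpt : (p : S ⊗[R] T) = 0 := by
    rw [← map_natCast (algebraMap S (S ⊗[R] T)), hp0, map_zero]
  have hbase : ∀ x : S ⊗[R] T, ∃ c, x ^ p = c ⊗ₜ 1 := by
    intro x
    induction x using TensorProduct.induction_on with
    | zero => exact ⟨0, by rw [zero_pow hp.out.ne_zero, TensorProduct.zero_tmul]⟩
    | tmul y z =>
      obtain ⟨w, hw⟩ := hT z
      refine ⟨w • y ^ p, ?_⟩
      rw [Algebra.TensorProduct.tmul_pow, TensorProduct.smul_tmul, hw, Algebra.smul_def, mul_one]
    | add x y hx hy =>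
      obtain ⟨c, hc⟩ := hx; obtain ⟨d, hd⟩ := hy
      refine ⟨c + d, ?_⟩
      have h := Groth.Agent.H27Perf.add_pow' hpt x y 1
      rw [pow_one] at h
      rw [h, hc, hd, TensorProduct.add_tmul]
  have h4 : PRad p g := by
    refine ⟨fun b => ?_, fun x hx => ⟨2, ?_⟩⟩
    · obtain ⟨n, y, hy⟩ := hl.pow_mem b
      exact ⟨n, y ⊗ₜ 1, (gl y).trans hy⟩
    · obtain ⟨c, hc⟩ := hbase x
      have hc0 : l c = 0 := by
        rw [← gl, ← hc, map_pow, hx, zero_pow hp.out.ne_zero]
      rw [pow_succ, pow_one, pow_mul, hc, Algebra.TensorProduct.tmul_pow, hl' c hc0,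
        TensorProduct.zero_tmul]
  algebraize [g]
  exact bijective_algebraMap_of_etale_of_pRad _ C hpt h4

variable (p : ℕ) [hp : Fact p.Prime] (A : Type u) [CommRing A] [CharP A p]

section BC

variable (P : Type u) [CommRing P] [Algebra A P] (B : Type u) [CommRing B] [Algebra A B]
  [Algebra P B] [IsScalarTower A P B]

/-- The map of Frobenius twists induced by an algebra map. -/
noncomputable def mapBC : BaseChange p A P →+* BaseChange p A B :=
  (Algebra.TensorProduct.map (IsScalarTower.toAlgHom A P B) (AlgHom.id A (Twist p A))).toRingHom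

theorem mapBC_tmul (x : P) (y : Twist p A) :
    mapBC p A P B (x ⊗ₜ[A] y) = algebraMap P B x ⊗ₜ[A] y := rfl

theorem mapBC_etale [Algebra.Etale P B] : (mapBC p A P B).Etale := by
  let e₁ := (Algebra.TensorProduct.cancelBaseChange A P P B (Twist p A)).toRingEquiv
  let e₂ := (Algebra.TensorProduct.comm P (BaseChange p A P) B).toRingEquiv
  have h0 : (algebraMap (BaseChange p A P) (BaseChange p A P ⊗[P] B)).Etale :=
    RingHom.etale_algebraMap.mpr inferInstance
  have h1 := RingHom.Etale.respectsIso.1 _ (e₂.trans e₁) h0
  convert h1 using 1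
  refine RingHom.ext fun x => ?_
  induction x using TensorProduct.induction_on with
  | zero => rw [map_zero, map_zero]
  | tmul x y =>
    rw [mapBC_tmul, RingHom.comp_apply, Algebra.TensorProduct.algebraMap_apply, Algebra.algebraMap_self_apply]
    change _ = Algebra.TensorProduct.cancelBaseChange A P P B (Twist p A) ((1 : B) ⊗ₜ[P] (x ⊗ₜ[A] y))
    rw [Algebra.TensorProduct.cancelBaseChange_tmul, Algebra.smul_def, mul_one]
  | add x y hx hy => rw [map_add, map_add, hx, hy]

variable [CharP P p] [CharP B p]

theorem relFrob_comp_mapBC :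
    (relFrob p A B).comp (mapBC p A P B) = (algebraMap P B).comp (relFrob p A P) := by
  refine RingHom.ext fun x => ?_
  induction x using TensorProduct.induction_on with
  | zero => rw [map_zero, map_zero]
  | tmul x y =>
    obtain ⟨a, rfl⟩ := exists_eq_tmul p A y
    rw [RingHom.comp_apply, RingHom.comp_apply, mapBC_tmul, relFrob_tmul, relFrob_tmul, map_mul,
      map_pow, ← IsScalarTower.algebraMap_apply]
  | add x y hx hy => rw [map_add, map_add, hx, hy]

/-- A basis of the relative Frobenius of `P` gives one for any étale `P`-algebra. -/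
theorem exists_basis_of_etale [Algebra.Etale P B] {ι : Type*}
    (b : letI := (relFrob p A P).toAlgebra; Module.Basis ι (BaseChange p A P) P) :
    letI := (relFrob p A B).toAlgebra; Nonempty (Module.Basis ι (BaseChange p A B) B) := by
  letI a1 : Algebra (BaseChange p A P) (BaseChange p A B) := (mapBC p A P B).toAlgebra
  letI a2 : Algebra (BaseChange p A P) P := (relFrob p A P).toAlgebra
  letI a4 : Algebra (BaseChange p A B) B := (relFrob p A B).toAlgebra
  haveI : Algebra.Etale (BaseChange p A P) (BaseChange p A B) := mapBC_etale p A P B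
  obtain ⟨g, hg, hgl, -⟩ := pushout_bijective p (relFrob p A B) (algebraMap P B)
    (relFrob_comp_mapBC p A P B) (RingHom.etale_algebraMap.mpr inferInstance)
    (natCast_baseChange p A B) (pRad_relFrob p A B) (pow_eq_zero_of_relFrob_eq_zero p A B)
    (fun z => ⟨z ⊗ₜ[A] toTwist p A 1, by
      rw [RingHom.algebraMap_toAlgebra, relFrob_tmul, map_one, mul_one]⟩)
  let e : BaseChange p A B ⊗[BaseChange p A P] P →ₐ[BaseChange p A B] B :=
    { toRingHom := g
      commutes' := fun x => hgl x }
  exact ⟨(Algebra.TensorProduct.basis (BaseChange p A B) b).map (AlgEquiv.ofBijective e hg).toLinearEquiv⟩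

end BC

section Poly

variable (σ : Type) [Fintype σ] [DecidableEq σ]

theorem relFrob_monomial_tmul (d : σ →₀ ℕ) (r a : A) :
    relFrob p A (MvPolynomial σ A) (MvPolynomial.monomial d r ⊗ₜ[A] toTwist p A a) =
      MvPolynomial.monomial (p • d) (r ^ p * a) := by
  rw [relFrob_tmul, MvPolynomial.monomial_pow, MvPolynomial.algebraMap_eq, mul_comm,
    MvPolynomial.C_mul_monomial, mul_comm]

/-- Exponents below `p`. -/
noncomputable def expLow (e : σ → Fin p) : σ →₀ ℕ := Finsupp.equivFunOnFinite.symm fun i => (e i : ℕ)

omit hp [DecidableEq σ] in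
theorem expLow_inj {e e' : σ → Fin p} {d d' : σ →₀ ℕ} (h : p • d + expLow p σ e = p • d' + expLow p σ e') :
    d = d' ∧ e = e' := by
  have hi : ∀ i, p * d i + (e i : ℕ) = p * d' i + (e' i : ℕ) := fun i => by
    simpa [expLow] using congr_arg (· i) h
  refine ⟨Finsupp.ext fun i => ?_, funext fun i => Fin.ext ?_⟩
  · have := congr_arg (· / p) (hi i)
    simpa [Nat.mul_add_div (e i).pos, Nat.div_eq_of_lt (e i).isLt, Nat.div_eq_of_lt (e' i).isLt] using this
  · have := congr_arg (· % p) (hi i)
    simpa [Nat.mod_eq_of_lt (e i).isLt, Nat.mod_eq_of_lt (e' i).isLt] using this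

theorem exists_basis_mvPolynomial :
    letI := (relFrob p A (MvPolynomial σ A)).toAlgebra
    Nonempty (Module.Basis (σ → Fin p) (BaseChange p A (MvPolynomial σ A)) (MvPolynomial σ A)) := by
  letI : Algebra (BaseChange p A (MvPolynomial σ A)) (MvPolynomial σ A) := (relFrob p A (MvPolynomial σ A)).toAlgebra
  let coord : BaseChange p A (MvPolynomial σ A) ≃ₗ[A] (σ →₀ ℕ) →₀ Twist p A :=
    TensorProduct.equivFinsuppOfBasisLeft (MvPolynomial.basisMonomials σ A)
  let f : ((σ → Fin p) → BaseChange p A (MvPolynomial σ A)) →ₗ[BaseChange p A (MvPolynomial σ A)] MvPolynomial σ A :=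
    Fintype.linearCombination (BaseChange p A (MvPolynomial σ A)) (fun e => MvPolynomial.monomial (expLow p σ e) (1 : A))
  have key : ∀ (c : BaseChange p A (MvPolynomial σ A)) (e e' : σ → Fin p) (d : σ →₀ ℕ),
      toTwist p A ((relFrob p A (MvPolynomial σ A) c * MvPolynomial.monomial (expLow p σ e) 1).coeff (p • d + expLow p σ e')) =
        if e = e' then coord c d else 0 := by
    intro c e e' d
    induction c using TensorProduct.induction_on with
    | zero => simp
    | tmul x y =>
      obtain ⟨a, rfl⟩ := exists_eq_tmul p A y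
      induction x using MvPolynomial.induction_on' with
      | monomial d' r =>
        rw [relFrob_monomial_tmul, MvPolynomial.monomial_mul, mul_one, MvPolynomial.coeff_monomial]
        have hc : coord (MvPolynomial.monomial d' r ⊗ₜ[A] toTwist p A a) d =
            if d' = d then toTwist p A (r ^ p * a) else 0 := by
          simp only [coord, TensorProduct.equivFinsuppOfBasisLeft_apply_tmul_apply]
          change (MvPolynomial.monomial d' r).coeff d • toTwist p A a = _
          rw [MvPolynomial.coeff_monomial]
          split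
          · rw [Algebra.smul_def, algebraMap_twist, ← map_mul]
          · rw [zero_smul]
        rw [hc]
        by_cases he : e = e'
        · subst he
          by_cases hd : d' = d
          · subst hd; simp
          · rw [if_neg (fun h => hd (expLow_inj p σ h).1), if_pos rfl, if_neg hd, map_zero]
        · rw [if_neg (fun h => he (expLow_inj p σ h).2), if_neg he, map_zero]
      | add u v hu hv =>
        rw [TensorProduct.add_tmul, map_add, map_add, add_mul, MvPolynomial.coeff_add, map_add, hu, hv,
          Finsupp.add_apply]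
        split <;> simp
    | add u v hu hv =>
      rw [map_add, map_add, add_mul, MvPolynomial.coeff_add, map_add, hu, hv, Finsupp.add_apply]
      split <;> simp
  have hinj : Function.Injective f := by
    rw [injective_iff_map_eq_zero]
    intro c hc
    funext e'
    apply coord.injective
    ext d
    have h := congr_arg (fun b : MvPolynomial σ A => toTwist p A (b.coeff (p • d + expLow p σ e'))) hc
    simp only [f, Fintype.linearCombination_apply, Algebra.smul_def, RingHom.algebraMap_toAlgebra,
      MvPolynomial.coeff_sum, map_sum, key, Finset.sum_ite_eq', Finset.mem_univ, if_true,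
      MvPolynomial.coeff_zero, map_zero] at h
    simpa using h
  have hsur : Function.Surjective f := by
    intro b
    induction b using MvPolynomial.induction_on' with
    | monomial d a =>
      let e : σ → Fin p := fun i => ⟨d i % p, Nat.mod_lt _ hp.out.pos⟩
      let d₀ : σ →₀ ℕ := Finsupp.equivFunOnFinite.symm fun i => d i / p
      refine ⟨Pi.single e (MvPolynomial.monomial d₀ (1 : A) ⊗ₜ[A] toTwist p A a), ?_⟩
      rw [Fintype.linearCombination_apply_single, Algebra.smul_def, RingHom.algebraMap_toAlgebra,
        relFrob_monomial_tmul, MvPolynomial.monomial_mul, one_pow, one_mul, mul_one]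
      congr 2
      ext i
      simp [d₀, e, expLow, Nat.div_add_mod]
    | add u v hu hv =>
      obtain ⟨x, rfl⟩ := hu; obtain ⟨y, rfl⟩ := hv
      exact ⟨x + y, map_add f x y⟩
  exact ⟨Module.Basis.ofEquivFun (LinearEquiv.ofBijective f ⟨hinj, hsur⟩).symm⟩

end Poly

end Groth.Agent.H27Frob
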