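import Groth.Agent.H27Frob.Smooth
import Mathlib

/-!
# The relative Frobenius of a smooth algebra is finite locally free
-/

set_option autoImplicit false
universe u

open TensorProduct FrobAlg

namespace Groth.Agent.H27Frob

open Groth.Agent.H27Perf

variable (p : ℕ) [hp : Fact p.Prime] (A : Type u) [CommRing A] [CharP A p]

/-- Prime characteristic passes to nontrivial algebras. -/
theorem charP_of_algebra (C : Type u) [CommRing C] [Algebra A C] [Nontrivial C] : CharP C p := by
  refine (CharP.charP_iff_prime_eq_zero hp.out).mpr ?_
  rw [← map_natCast (algebraMap A C), CharP.cast_eq_zero A p, map_zero]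

theorem exists_basis_standardSmooth (C : Type u) [CommRing C] [Algebra A C] [CharP C p]
    [Algebra.IsStandardSmooth A C] :
    ∃ n : ℕ, (letI := (relFrob p A C).toAlgebra;
      Nonempty (Module.Basis (Fin n → Fin p) (BaseChange p A C) C)) ∧
      Module.finrank C (Ω[C⁄A]) = n := by
  haveI : Nontrivial A := CharP.nontrivial_of_char_ne_one hp.out.ne_one
  haveI : Nontrivial C := CharP.nontrivial_of_char_ne_one hp.out.ne_one
  obtain ⟨ι, σ, _, _, ⟨S⟩⟩ := Algebra.IsStandardSmooth.out (R := A) (S := C)
  refine ⟨S.dimension, ?_⟩
  haveI : Algebra.IsStandardSmoothOfRelativeDimension S.dimension A C :=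
    S.isStandardSmoothOfRelativeDimension rfl
  obtain ⟨g, hg⟩ := Algebra.IsStandardSmoothOfRelativeDimension.exists_etale_mvPolynomial S.dimension A C
  letI : Algebra (MvPolynomial (Fin S.dimension) A) C := g.toRingHom.toAlgebra
  haveI : IsScalarTower A (MvPolynomial (Fin S.dimension) A) C := IsScalarTower.of_algHom g
  haveI : Algebra.Etale (MvPolynomial (Fin S.dimension) A) C := hg
  obtain ⟨b⟩ := exists_basis_mvPolynomial p A (Fin S.dimension)
  exact ⟨exists_basis_of_etale p A _ C b,
    Module.finrank_eq_of_rank_eq (Algebra.IsStandardSmoothOfRelativeDimension.rank_kaehlerDifferential _)⟩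

variable (B : Type u) [CommRing B] [Algebra A B] [CharP B p]

theorem algebraMap_away_comp (f : B) [CharP (Localization.Away f) p] :
    (relFrob p A (Localization.Away f)).comp (mapBC p A B (Localization.Away f)) =
      (algebraMap B (Localization.Away f)).comp (relFrob p A B) :=
  relFrob_comp_mapBC p A B (Localization.Away f)

theorem flat_localizedModule_away (f : B) (C : Type u) [CommRing C] [Algebra A C] [Algebra B C]
    [IsScalarTower A B C] [IsLocalization.Away f C] [CharP C p] [Algebra.Etale B C] {ι : Type}
    (b : letI := (relFrob p A C).toAlgebra; Module.Basis ι (BaseChange p A C) C) :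
    letI := (relFrob p A B).toAlgebra
    Module.Flat (BaseChange p A B)
      (LocalizedModule.Away (f ⊗ₜ[A] toTwist p A 1 : BaseChange p A B) B) := by
  letI a0 : Algebra (BaseChange p A B) B := (relFrob p A B).toAlgebra
  letI a1 : Algebra (BaseChange p A C) C := (relFrob p A C).toAlgebra
  haveI : Module.Free (BaseChange p A C) C := Module.Free.of_basis b
  have h1 : (mapBC p A B C).Flat := by
    have h := mapBC_etale p A B C
    algebraize [mapBC p A B C]
    show Module.Flat (BaseChange p A B) (BaseChange p A C)
    infer_instance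
  have h2 : ((algebraMap B C).comp (relFrob p A B)).Flat := by
    rw [← relFrob_comp_mapBC p A B C]
    exact RingHom.Flat.comp h1 (show Module.Flat (BaseChange p A C) C from inferInstance)
  letI a2 : Algebra (BaseChange p A B) C := ((algebraMap B C).comp (relFrob p A B)).toAlgebra
  haveI : IsScalarTower (BaseChange p A B) B C := IsScalarTower.of_algebraMap_eq' rfl
  haveI : Module.Flat (BaseChange p A B) C := h2
  have hff : algebraMap (BaseChange p A B) B (f ⊗ₜ[A] toTwist p A 1) = f ^ p := by
    change relFrob p A B _ = _
    rw [relFrob_tmul, map_one, mul_one]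
  haveI : IsLocalization (Algebra.algebraMapSubmonoid B
      (Submonoid.powers (f ⊗ₜ[A] toTwist p A 1 : BaseChange p A B))) C := by
    rw [Algebra.algebraMapSubmonoid_powers, hff]
    refine (IsLocalization.iff_of_le_of_exists_dvd (S := C) (Submonoid.powers (f ^ p)) (Submonoid.powers f)
      (Submonoid.powers_le.mpr ⟨p, rfl⟩) ?_).mpr inferInstance
    rintro _ ⟨n, rfl⟩
    refine ⟨(f ^ p) ^ n, ⟨n, rfl⟩, ?_⟩
    change f ^ n ∣ (f ^ p) ^ n
    rw [← pow_mul]
    exact pow_dvd_pow f (Nat.le_mul_of_pos_left n hp.out.pos)
  haveI : IsLocalizedModule (Submonoid.powers (f ⊗ₜ[A] toTwist p A 1 : BaseChange p A B))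
      (IsScalarTower.toAlgHom (BaseChange p A B) B C).toLinearMap :=
    isLocalizedModule_iff_isLocalization.mpr inferInstance
  exact Module.Flat.of_linearEquiv (IsLocalizedModule.linearEquiv
    (Submonoid.powers (f ⊗ₜ[A] toTwist p A 1 : BaseChange p A B))
    (LocalizedModule.mkLinearMap _ B)
    (IsScalarTower.toAlgHom (BaseChange p A B) B C).toLinearMap)

theorem flat_relFrob_of_smooth [Algebra.Smooth A B] : (relFrob p A B).Flat := by
  obtain ⟨s, hs, hstd⟩ := Algebra.Smooth.exists_span_eq_top_isStandardSmooth A B
  letI a0 : Algebra (BaseChange p A B) B := (relFrob p A B).toAlgebra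
  show Module.Flat (BaseChange p A B) B
  have hspan : Ideal.span ((fun f : B => f ⊗ₜ[A] toTwist p A 1) '' s) = (⊤ : Ideal (BaseChange p A B)) := by
    rw [Ideal.eq_top_iff_one]
    have : (1 : B) ∈ Ideal.span s := by rw [hs]; trivial
    have h := Ideal.mem_map_of_mem
      (Algebra.TensorProduct.includeLeftRingHom : B →+* BaseChange p A B) this
    rw [Ideal.map_span, map_one] at h
    exact h
  refine Module.flat_of_localized_span (BaseChange p A B) B
    ((fun f : B => f ⊗ₜ[A] toTwist p A 1) '' s) hspan (fun r => ?_)
  obtain ⟨_, f, hf, rfl⟩ := r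
  dsimp only
  by_cases hnil : Subsingleton (Localization.Away f)
  · haveI : Subsingleton (LocalizedModule.Away (f ⊗ₜ[A] toTwist p A 1 : BaseChange p A B) B) := by
      rw [LocalizedModule.subsingleton_iff]
      intro m
      obtain ⟨n, hn⟩ : IsNilpotent f := by
        have h1 : (algebraMap B (Localization.Away f)) 1 = 0 := Subsingleton.elim _ _
        rw [IsLocalization.map_eq_zero_iff (Submonoid.powers f)] at h1
        obtain ⟨⟨_, n, rfl⟩, hn⟩ := h1
        exact ⟨n, by simpa using hn⟩
      refine ⟨_, ⟨n, rfl⟩, ?_⟩
      change ((f ⊗ₜ[A] toTwist p A 1 : BaseChange p A B) ^ n) • m = 0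
      rw [Algebra.TensorProduct.tmul_pow, hn, TensorProduct.zero_tmul, zero_smul]
    infer_instance
  · haveI : Nontrivial (Localization.Away f) := not_subsingleton_iff_nontrivial.mp hnil
    haveI := charP_of_algebra p A (Localization.Away f)
    haveI := hstd f hf
    obtain ⟨n, hb, -⟩ := exists_basis_standardSmooth p A (Localization.Away f)
    letI a1 : Algebra (BaseChange p A (Localization.Away f)) (Localization.Away f) :=
      (relFrob p A (Localization.Away f)).toAlgebra
    obtain ⟨b⟩ := hb
    haveI : Module.Free (BaseChange p A (Localization.Away f)) (Localization.Away f) := Module.Free.of_basis b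
    haveI : Algebra.Etale B (Localization.Away f) := Algebra.Etale.of_isLocalizationAway f
    exact flat_localizedModule_away p A B f (Localization.Away f) b

theorem finite_relFrob_of_finiteType [Algebra.FiniteType A B] : (relFrob p A B).Finite := by
  refine RingHom.IsIntegral.to_finite (relFrob_isIntegral p A B) ?_
  refine RingHom.FiniteType.of_comp_finiteType
    (f := (Algebra.TensorProduct.includeRight : Twist p A →ₐ[A] BaseChange p A B).toRingHom) ?_
  have e : (relFrob p A B).comp (Algebra.TensorProduct.includeRight : Twist p A →ₐ[A] BaseChange p A B).toRingHom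
      = (algebraMap A B).comp ((toTwist p A).symm : Twist p A →+* A) := RingHom.ext fun y => by
    obtain ⟨a, rfl⟩ := exists_eq_tmul p A y
    change relFrob p A B (1 ⊗ₜ[A] toTwist p A a) = algebraMap A B a
    rw [relFrob_tmul, one_pow, one_mul]
  rw [e]
  exact RingHom.FiniteType.comp (RingHom.finiteType_algebraMap.mpr inferInstance)
    (RingHom.FiniteType.of_surjective _ (toTwist p A).symm.surjective)

theorem finitePresentation_relFrob [Algebra.FinitePresentation A B] :
    letI := (relFrob p A B).toAlgebra; Algebra.FinitePresentation (BaseChange p A B) B := by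
  letI a0 : Algebra (BaseChange p A B) B := (relFrob p A B).toAlgebra
  show (relFrob p A B).FinitePresentation
  have e : (relFrob p A B).comp (algebraMap (Twist p A) (BaseChange p A B))
      = (algebraMap A B).comp ((toTwist p A).symm : Twist p A →+* A) := RingHom.ext fun y => by
    obtain ⟨a, rfl⟩ := exists_eq_tmul p A y
    change relFrob p A B (1 ⊗ₜ[A] toTwist p A a) = algebraMap A B a
    rw [relFrob_tmul, one_pow, one_mul]
  refine RingHom.FinitePresentation.of_comp_finiteType (algebraMap (Twist p A) (BaseChange p A B)) ?_ ?_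
  · rw [e]
    exact RingHom.finitePresentation_respectsIso.2 (algebraMap A B) (toTwist p A).symm
      (RingHom.finitePresentation_algebraMap.mpr inferInstance)
  · haveI : Algebra.FiniteType (Twist p A) (BaseChange p A B) :=
      Algebra.FiniteType.equiv inferInstance (Algebra.TensorProduct.commRight A (Twist p A) B)
    exact RingHom.finiteType_algebraMap.mpr inferInstance

theorem rankAtStalk_eq_card_of_etale (C : Type u) [CommRing C] [Algebra A C] [Algebra B C]
    [IsScalarTower A B C] [CharP C p] [Algebra.Etale B C] [Algebra.Smooth A B] {ι : Type} [Fintype ι]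
    (b : letI := (relFrob p A C).toAlgebra; Module.Basis ι (BaseChange p A C) C)
    (Q : PrimeSpectrum (BaseChange p A C)) :
    letI := (relFrob p A B).toAlgebra
    Module.rankAtStalk (R := BaseChange p A B) B (PrimeSpectrum.comap (mapBC p A B C) Q) = Fintype.card ι := by
  letI a0 : Algebra (BaseChange p A B) B := (relFrob p A B).toAlgebra
  letI a1 : Algebra (BaseChange p A C) C := (relFrob p A C).toAlgebra
  letI a2 : Algebra (BaseChange p A B) (BaseChange p A C) := (mapBC p A B C).toAlgebra
  haveI : Algebra.Etale (BaseChange p A B) (BaseChange p A C) := mapBC_etale p A B C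
  haveI : Module.Finite (BaseChange p A B) B := finite_relFrob_of_finiteType p A B
  haveI : Module.Flat (BaseChange p A B) B := flat_relFrob_of_smooth p A B
  obtain ⟨g, hg, hgl, -⟩ := pushout_bijective p (relFrob p A C) (algebraMap B C)
    (relFrob_comp_mapBC p A B C) (RingHom.etale_algebraMap.mpr inferInstance)
    (natCast_baseChange p A _) (pRad_relFrob p A _) (pow_eq_zero_of_relFrob_eq_zero p A _)
    (fun z => ⟨z ⊗ₜ[A] toTwist p A 1, by
      rw [RingHom.algebraMap_toAlgebra, relFrob_tmul, map_one, mul_one]⟩)
  let e : BaseChange p A C ⊗[BaseChange p A B] B →ₐ[BaseChange p A C] C :=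
    { toRingHom := g
      commutes' := fun x => hgl x }
  show Module.rankAtStalk (R := BaseChange p A B) B
    (PrimeSpectrum.comap (algebraMap (BaseChange p A B) (BaseChange p A C)) Q) = Fintype.card ι
  rw [← Module.rankAtStalk_baseChange,
    Module.rankAtStalk_eq_of_equiv (AlgEquiv.ofBijective e hg).toLinearEquiv]
  haveI : Module.Free (BaseChange p A C) C := Module.Free.of_basis b
  haveI : Nontrivial (BaseChange p A C) := PrimeSpectrum.nonempty_iff_nontrivial.mp ⟨Q⟩
  rw [Module.rankAtStalk_eq_finrank_of_free, Pi.natCast_apply, Nat.cast_id, Module.finrank_eq_card_basis b]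

theorem relFrob_locallyFree_rank [Algebra.Smooth A B] (r : ℕ)
    (hr : ∀ q : PrimeSpectrum B, Module.rankAtStalk (R := B) (Ω[B⁄A]) q = r) :
    letI := (relFrob p A B).toAlgebra
    Module.Finite (BaseChange p A B) B ∧ Module.Projective (BaseChange p A B) B ∧
      ∀ q : PrimeSpectrum (BaseChange p A B),
        Module.rankAtStalk (R := BaseChange p A B) B q = p ^ r := by
  letI a0 : Algebra (BaseChange p A B) B := (relFrob p A B).toAlgebra
  haveI hfin : Module.Finite (BaseChange p A B) B := finite_relFrob_of_finiteType p A B
  haveI : Algebra.FinitePresentation (BaseChange p A B) B := finitePresentation_relFrob p A B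
  haveI : Module.FinitePresentation (BaseChange p A B) B :=
    (Module.FinitePresentation.iff_finitePresentation_of_finite _ _).mpr inferInstance
  haveI : Module.Flat (BaseChange p A B) B := flat_relFrob_of_smooth p A B
  refine ⟨hfin, Module.Flat.projective_of_finitePresentation, fun q => ?_⟩
  obtain ⟨q', hq'⟩ := ((pRad_relFrob p A B).isHomeomorph_comap).surjective q
  obtain ⟨s, hs, hstd⟩ := Algebra.Smooth.exists_span_eq_top_isStandardSmooth A B
  obtain ⟨f, hf, hfq⟩ : ∃ f ∈ s, f ∉ q'.asIdeal := by
    by_contra hcon
    push Not at hcon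
    exact q'.isPrime.ne_top (top_le_iff.mp (hs ▸ Ideal.span_le.mpr hcon))
  haveI := hstd f hf
  haveI : Algebra.Etale B (Localization.Away f) := Algebra.Etale.of_isLocalizationAway f
  obtain ⟨q'', hq''⟩ : q' ∈ Set.range (PrimeSpectrum.comap (algebraMap B (Localization.Away f))) := by
    rw [PrimeSpectrum.localization_away_comap_range (Localization.Away f) f]
    exact hfq
  haveI : Nontrivial (Localization.Away f) := PrimeSpectrum.nonempty_iff_nontrivial.mp ⟨q''⟩
  haveI := charP_of_algebra p A (Localization.Away f)
  obtain ⟨n, hb, hn⟩ := exists_basis_standardSmooth p A (Localization.Away f)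
  have hnr : n = r := by
    have h := Module.rankAtStalk_isBaseChange
      (IsLocalizedModule.isBaseChange (Submonoid.powers f) (Localization.Away f)
        (KaehlerDifferential.map A A B (Localization.Away f))) q''
    rw [hr, Module.rankAtStalk_eq_finrank_of_free, Pi.natCast_apply, Nat.cast_id] at h
    exact hn.symm.trans h
  subst hnr
  letI a1 : Algebra (BaseChange p A (Localization.Away f)) (Localization.Away f) :=
    (relFrob p A (Localization.Away f)).toAlgebra
  obtain ⟨b⟩ := hb
  have key := rankAtStalk_eq_card_of_etale p A B (Localization.Away f) b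
    (PrimeSpectrum.comap (relFrob p A (Localization.Away f)) q'')
  rw [← PrimeSpectrum.comap_comp_apply, relFrob_comp_mapBC, PrimeSpectrum.comap_comp_apply, hq'', hq'] at key
  rw [key]
  simp

end Groth.Agent.H27Frob
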