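import Groth.Agent.H27Frob.SmoothFlat
import Mathlib

/-! # Flatness of the relative Frobenius of a smooth algebra, arbitrary universes -/

set_option autoImplicit false
universe u v w

open TensorProduct FrobAlg

namespace Groth.Agent.H27Frob

variable (p : ℕ) [hp : Fact p.Prime]

theorem relFrob_tmul' (A : Type u) [CommRing A] [CharP A p] (B : Type v) [CommRing B] [Algebra A B]
    [CharP B p] (b : B) (a : A) :
    relFrob p A B (b ⊗ₜ[A] toTwist p A a) = b ^ p * algebraMap A B a := by
  change (toTarget p A B).symm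
    (Algebra.TensorProduct.lift (frobHom p A B) (inclHom p A B) (fun _ _ => Commute.all _ _)
      (b ⊗ₜ[A] toTwist p A a)) = _
  rw [Algebra.TensorProduct.lift_tmul, map_mul]
  rfl

theorem exists_baseChange_hom' {A : Type u} [CommRing A] [CharP A p] {B : Type v} [CommRing B]
    [Algebra A B] {C : Type w} [CommRing C] (φ : B →+* C) (r : A →+* C)
    (hφ : ∀ a, φ (algebraMap A B a) = r (a ^ p)) :
    ∃ g : BaseChange p A B →+* C, ∀ b a, g (b ⊗ₜ[A] toTwist p A a) = φ b * r a := by
  let C' := C
  letI : CommRing C' := inferInstanceAs (CommRing C)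
  letI : Algebra A C' := RingHom.toAlgebra (r.comp (frobenius A p) : A →+* C')
  let φ₁ : B →ₐ[A] C' :=
    { toRingHom := (φ : B →+* C')
      commutes' := fun a => hφ a }
  let ψ₁ : Twist p A →ₐ[A] C' :=
    { toRingHom := (r.comp ((toTwist p A).symm : Twist p A →+* A) : Twist p A →+* C')
      commutes' := fun a => rfl }
  refine ⟨((Algebra.TensorProduct.lift φ₁ ψ₁ (fun _ _ => Commute.all _ _)).toRingHom :
    BaseChange p A B →+* C'), fun b a => ?_⟩
  change Algebra.TensorProduct.lift φ₁ ψ₁ (fun _ _ => Commute.all _ _) (b ⊗ₜ[A] toTwist p A a) = _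
  rw [Algebra.TensorProduct.lift_tmul]
  rfl

theorem flat_relFrob_of_smooth' (A : Type u) [CommRing A] [CharP A p] (B : Type v) [CommRing B]
    [Algebra A B] [CharP B p] [Algebra.Smooth A B] : (relFrob p A B).Flat := by
  haveI : CharP (ULift.{v} A) p := charP_of_injective_ringHom
    (f := (ULift.ringEquiv (R := A)).symm.toRingHom) (ULift.ringEquiv (R := A)).symm.injective p
  haveI : CharP (ULift.{u} B) p := charP_of_injective_ringHom
    (f := (ULift.ringEquiv (R := B)).symm.toRingHom) (ULift.ringEquiv (R := B)).symm.injective p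
  letI algAB : Algebra (ULift.{v} A) (ULift.{u} B) :=
    { algebraMap := ((ULift.ringEquiv (R := B)).symm.toRingHom).comp
        ((algebraMap A B).comp (ULift.ringEquiv (R := A)).toRingHom)
      smul := fun a b => a • b
      commutes' := fun a b => mul_comm _ _
      smul_def' := fun a b => ULift.ext _ _ (Algebra.smul_def a.down b.down) }
  haveI : IsScalarTower A (ULift.{v} A) (ULift.{u} B) := 
    ⟨fun a b c => ULift.ext _ _ (smul_assoc a b.down c.down)⟩
  haveI : Algebra.Smooth A (ULift.{u} B) := Algebra.Smooth.of_equiv ULift.algEquiv.symm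
  have hsur : Function.Surjective (algebraMap A (ULift.{v} A)) := fun a => ⟨a.down, rfl⟩
  haveI : Algebra.FormallyUnramified A (ULift.{v} A) :=
    Algebra.FormallyUnramified.of_surjective (Algebra.ofId A (ULift.{v} A)) hsur
  haveI : Algebra.FiniteType A (ULift.{v} A) :=
    Algebra.FiniteType.of_surjective (Algebra.ofId A (ULift.{v} A)) hsur
  haveI : Algebra.Smooth (ULift.{v} A) (ULift.{u} B) :=
    { formallySmooth := Algebra.FormallySmooth.of_restrictScalars A _ _
      finitePresentation := Algebra.FinitePresentation.of_restrict_scalars_finitePresentation A _ _ }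
  let eA : A ≃+* ULift.{v} A := ULift.ringEquiv.symm
  let eB : B ≃+* ULift.{u} B := ULift.ringEquiv.symm
  obtain ⟨ψ, hψ⟩ := exists_baseChange_hom' p
    (C := BaseChange p (ULift.{v} A) (ULift.{u} B))
    ((Algebra.TensorProduct.includeLeftRingHom).comp (eB : B →+* ULift.{u} B))
    (((Algebra.TensorProduct.includeRight (R := ULift.{v} A)).toRingHom.comp
      ((toTwist p (ULift.{v} A) : ULift.{v} A →+* _))).comp (eA : A →+* ULift.{v} A))
    (fun a => by
      change (algebraMap (ULift.{v} A) (ULift.{u} B) (eA a)) ⊗ₜ[ULift.{v} A] (1 : Twist p (ULift.{v} A)) =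
        (1 : ULift.{u} B) ⊗ₜ[ULift.{v} A] toTwist p (ULift.{v} A) (eA (a ^ p))
      rw [Algebra.algebraMap_eq_smul_one, TensorProduct.smul_tmul, Algebra.smul_def, mul_one,
        algebraMap_twist, map_pow eA])
  obtain ⟨χ, hχ⟩ := exists_baseChange_hom' p
    (C := BaseChange p A B)
    ((Algebra.TensorProduct.includeLeftRingHom).comp (eB.symm : ULift.{u} B →+* B))
    (((Algebra.TensorProduct.includeRight (R := A)).toRingHom.comp
      ((toTwist p A : A →+* _))).comp (eA.symm : ULift.{v} A →+* A))
    (fun a => by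
      change (algebraMap A B a.down) ⊗ₜ[A] (1 : Twist p A) = (1 : B) ⊗ₜ[A] toTwist p A (eA.symm (a ^ p))
      rw [Algebra.algebraMap_eq_smul_one, TensorProduct.smul_tmul, Algebra.smul_def, mul_one,
        algebraMap_twist, map_pow eA.symm]
      rfl)
  have hψ' : ∀ b a, ψ (b ⊗ₜ[A] toTwist p A a) = eB b ⊗ₜ[ULift.{v} A] toTwist p _ (eA a) := fun b a => by
    rw [hψ]
    change (eB b ⊗ₜ[ULift.{v} A] (1 : Twist p (ULift.{v} A))) * ((1 : ULift.{u} B) ⊗ₜ[ULift.{v} A] toTwist p _ (eA a)) = _
    rw [Algebra.TensorProduct.tmul_mul_tmul, mul_one, one_mul]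
  have hχ' : ∀ b a, χ (b ⊗ₜ[ULift.{v} A] toTwist p _ a) = eB.symm b ⊗ₜ[A] toTwist p A (eA.symm a) :=
    fun b a => by
    rw [hχ]
    change (eB.symm b ⊗ₜ[A] (1 : Twist p A)) * ((1 : B) ⊗ₜ[A] toTwist p A (eA.symm a)) = _
    rw [Algebra.TensorProduct.tmul_mul_tmul, mul_one, one_mul]
  have hbij : Function.Bijective ψ := by
    refine ⟨Function.LeftInverse.injective (g := χ) fun x => ?_,
      Function.RightInverse.surjective (g := χ) fun x => ?_⟩
    · induction x using TensorProduct.induction_on with
      | zero => rw [map_zero, map_zero]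
      | tmul b y =>
        obtain ⟨a, rfl⟩ : ∃ a, toTwist p A a = y := ⟨(toTwist p A).symm y, rfl⟩
        rw [hψ', hχ', eB.symm_apply_apply, eA.symm_apply_apply]
      | add x y hx hy => rw [map_add, map_add, hx, hy]
    · induction x using TensorProduct.induction_on with
      | zero => rw [map_zero, map_zero]
      | tmul b y =>
        obtain ⟨a, rfl⟩ : ∃ a, toTwist p (ULift.{v} A) a = y := ⟨(toTwist p _).symm y, rfl⟩
        rw [hχ', hψ', eB.apply_symm_apply, eA.apply_symm_apply]
      | add x y hx hy => rw [map_add, map_add, hx, hy]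
  have hsq : relFrob p A B =
      ((eB.symm : ULift.{u} B →+* B).comp (relFrob p (ULift.{v} A) (ULift.{u} B))).comp ψ := by
    refine RingHom.ext fun x => ?_
    induction x using TensorProduct.induction_on with
    | zero => rw [map_zero, map_zero]
    | tmul b y =>
      obtain ⟨a, rfl⟩ : ∃ a, toTwist p A a = y := ⟨(toTwist p A).symm y, rfl⟩
      rw [RingHom.comp_apply, RingHom.comp_apply, hψ', relFrob_tmul', relFrob_tmul']
      rfl
    | add x y hx hy => rw [map_add, map_add, hx, hy]
  rw [hsq]
  exact RingHom.Flat.comp (RingHom.Flat.of_bijective hbij)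
    (RingHom.Flat.comp (flat_relFrob_of_smooth p (ULift.{v} A) (ULift.{u} B))
      (RingHom.Flat.of_bijective eB.symm.bijective))

end Groth.Agent.H27Frob
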