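import Groth.Agent.H17.FLI.Smooth
import Groth.Agent.H27CurveDiv.RelDim
import Groth.Agent.H10Coh.AffinePush
import Groth.Agent.H10Coh.Proper2
import Groth.Prelude.Def_Frob
import Groth.Prelude.Def_ClSub2
import Mathlib

/-!
# Frobenius splitting from bijectivity on the top cohomology
-/

set_option autoImplicit false
set_option linter.style.haveILetI false
set_option backward.isDefEq.respectTransparency false
set_option backward.isDefEq.respectTransparency.types false

universe u

open CategoryTheory AlgebraicGeometry Opposite TopologicalSpace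

namespace Groth.Agent.H27Frob

/-- The absolute Frobenius of a scheme of finite type over a perfect field is finite. -/
theorem isFinite_frob (p : ℕ) [Fact p.Prime] (k : Type u) [Field k] [CharP k p] [PerfectRing k p]
    (X : Scheme.{u}) (f : X ⟶ Spec (CommRingCat.of k)) [LocallyOfFiniteType f] [FrobSch.IsCharP X p] :
    IsFinite (FrobSch.frob X p) := by
  haveI : IsAffineHom (FrobSch.frob X p) := ⟨fun U hU => hU⟩
  refine ⟨fun U hU => ?_⟩
  let φ : Γ(Spec (CommRingCat.of k), ⊤) →+* Γ(X, U) := (f.appLE ⊤ U (by simp)).hom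
  have hft : φ.FiniteType := LocallyOfFiniteType.finiteType_appLE (f := f) (isAffineOpen_top _) hU _
  let F : Γ(X, U) →+* Γ(X, U) := ((FrobSch.frob X p).app U).hom
  have hF : ∀ s, F s = s ^ p := fun s => rfl
  show F.Finite
  refine RingHom.finite_iff_isIntegral_and_finiteType.mpr ⟨fun x => ?_, ?_⟩
  · refine ⟨Polynomial.X ^ p - Polynomial.C x, Polynomial.monic_X_pow_sub_C x (Fact.out : p.Prime).ne_zero, ?_⟩
    rw [Polynomial.eval₂_sub, Polynomial.eval₂_X_pow, Polynomial.eval₂_C, hF, sub_self]
  · let ψ : k →+* Γ(X, U) := φ.comp (Scheme.ΓSpecIso (CommRingCat.of k)).inv.hom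
    have hψ : ψ.FiniteType := hft.comp (RingHom.FiniteType.of_surjective _
      (Scheme.ΓSpecIso (CommRingCat.of k)).commRingCatIsoToRingEquiv.symm.surjective)
    refine RingHom.FiniteType.of_comp_finiteType (f := ψ) ?_
    rw [show F.comp ψ = ψ.comp (frobenius k p) from RingHom.ext fun c => by
      rw [RingHom.comp_apply, hF]
      exact (map_pow ψ c p).symm]
    exact hψ.comp (RingHom.FiniteType.of_surjective _ (bijective_frobenius k p).2)

variable {p : ℕ} [Fact p.Prime] {k : Type u} [Field k] [CharP k p] [PerfectRing k p] {X : Scheme.{u}}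
  [X.Over (Spec (CommRingCat.of k))]

/-- If the `p`-th power map is bijective on the top cohomology and the top forms are trivial, then `X` is split. -/
theorem exists_split {N r : ℕ} (ι : X ⟶ CohB1.ProjSpace N k) [IsClosedImmersion ι]
    (hι : ι ≫ CohB1.ProjSpace.toSpec N k = X ↘ Spec (CommRingCat.of k))
    [SmoothOfRelativeDimension r (X ↘ Spec (CommRingCat.of k))]
    (hω : ExtPow.IsExtPow r (Omega.sheaf (X ↘ Spec (CommRingCat.of k))) (Coh.structureModule X))
    (φ : Coh.toAb (Coh.structureModule X) ⟶ Coh.toAb (Coh.structureModule X))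
    (hφ : ∀ (U : X.Opens) (t : Γ(X, U)), φ.hom.app (op U) t = t ^ p)
    (hbij : Function.Bijective (Sheaf.H.map φ r)) :
    ∃ s : Coh.toAb (Coh.structureModule X) ⟶ Coh.toAb (Coh.structureModule X),
        φ ≫ s = 𝟙 _ ∧ ∀ (U : X.Opens) (a b : Γ(X, U)),
          s.hom.app (op U) (a ^ p * b) = a * @id Γ(X, U) (s.hom.app (op U) b) := by
  haveI : FrobSch.IsCharP X p := FrobSch.IsCharP.of_hom (X ↘ Spec (CommRingCat.of k)) p
  haveI : Smooth (X ↘ Spec (CommRingCat.of k)) := SmoothOfRelativeDimension.smooth r _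
  haveI : IsLocallyNoetherian X := LocallyOfFiniteType.isLocallyNoetherian (X ↘ Spec (CommRingCat.of k))
  haveI := isFinite_frob p k X (X ↘ Spec (CommRingCat.of k))
  obtain ⟨t, ht⟩ := H17.FLI.existsUnique_topForms (r := r) ι hι hω
  let O := Coh.structureModule X
  let G := (Scheme.Modules.pushforward (FrobSch.frob X p)).obj O
  have hG : Coh.IsCoh G := H10Coh.isCoh_push_of_isFinite _ _ (H10Coh.isCoh_structureModule' X)
  let u : O ⟶ G := ClSub.unitToPush (FrobSch.frob X p)
  -- the comparison with the structure sheaf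
  let e : Coh.toAb O ⟶ Coh.toAb G :=
    ⟨{ app := fun U => AddCommGrpCat.ofHom
          (X := (Coh.toAb O).obj.obj U) (Y := (Coh.toAb G).obj.obj U) (AddMonoidHom.id Γ(X, U.unop))
       naturality := fun U V g => by ext m; rfl }⟩
  let e' : Coh.toAb G ⟶ Coh.toAb O :=
    ⟨{ app := fun U => AddCommGrpCat.ofHom
          (X := (Coh.toAb G).obj.obj U) (Y := (Coh.toAb O).obj.obj U) (AddMonoidHom.id Γ(X, U.unop))
       naturality := fun U V g => by ext m; rfl }⟩
  have hu : (SheafOfModules.toSheaf X.ringCatSheaf).map u = φ ≫ e := by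
    ext U m
    obtain ⟨U⟩ := U
    change (FrobSch.frob X p).app U (show Γ(X, U) from m) = φ.hom.app (op U) (show Γ(X, U) from m)
    rw [FrobSch.frob_app]
    exact (hφ U _).symm
  have hee' : e ≫ e' = 𝟙 _ := by ext U m; rfl
  have he'e : e' ≫ e = 𝟙 _ := by ext U m; rfl
  let L : Coh.HH X O r →ₗ[k] Coh.HH X G r := Canon.HHlin k u r
  have hL : Function.Bijective L := by
    have h1 : ∀ x, L x = Sheaf.H.map e r (Sheaf.H.map φ r x) := fun x => by
      rw [← Sheaf.H.map_comp_apply, ← hu]; rfl
    have h2 : Function.Bijective (Sheaf.H.map e r) := Function.bijective_iff_has_inverse.2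
      ⟨Sheaf.H.map e' r, fun x => by rw [← Sheaf.H.map_comp_apply, hee', Sheaf.H.map_id_apply],
        fun x => by rw [← Sheaf.H.map_comp_apply, he'e, Sheaf.H.map_id_apply]⟩
    have : (L : Coh.HH X O r → Coh.HH X G r) = Sheaf.H.map e r ∘ Sheaf.H.map φ r := funext h1
    rw [this]
    exact h2.comp hbij
  let Le := LinearEquiv.ofBijective L hL
  obtain ⟨σ, hσ, -⟩ := ht G hG (t ∘ₗ Le.symm.toLinearMap)
  have huσ : u ≫ σ = 𝟙 O := by
    obtain ⟨τ, -, huniq⟩ := ht O (H10Coh.isCoh_structureModule' X) t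
    have h1 := huniq (u ≫ σ) fun x => by
      have h2 := hσ (L x)
      rw [LinearMap.comp_apply, LinearEquiv.coe_coe, show Le.symm (L x) = x from Le.symm_apply_apply x] at h2
      rw [h2, Functor.map_comp, Sheaf.H.map_comp_apply]
      rfl
    have h3 := huniq (𝟙 O) fun x => by rw [CategoryTheory.Functor.map_id, Sheaf.H.map_id_apply]
    rw [h1, h3]
  refine ⟨e ≫ (SheafOfModules.toSheaf X.ringCatSheaf).map σ, ?_, fun U a b => ?_⟩
  · rw [← Category.assoc, ← hu, ← Functor.map_comp, huσ, CategoryTheory.Functor.map_id]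
  · exact σ.app_smul a (show Γ(G, U) from b)

end Groth.Agent.H27Frob
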