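import Groth.Prelude.Def_W4c1liftfrobW2
import Groth.Agent.H27Frob.LiftCriterion
import Mathlib

/-!
# The split quadric: no liftings to `W₂(k)`
-/

set_option autoImplicit false
set_option linter.style.haveILetI false
universe u

open MvPolynomial

noncomputable section

namespace Groth.Agent.H27Frob

variable (p : ℕ) [hp : Fact p.Prime] (k : Type u) [Field k] [CharP k p] (n : ℕ)

/-- the split quadratic form -/
def quad : MvPolynomial (Fin n × Fin 2) k := ∑ i : Fin n, X (i, (0 : Fin 2)) * X (i, (1 : Fin 2))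

/-- the `p`-neighbourhood of the vertex of the split quadric -/
def nbhdIdeal : Ideal (MvPolynomial (Fin n × Fin 2) k) :=
  Ideal.span (insert (quad k n) (Set.range fun v : Fin n × Fin 2 => (X v : MvPolynomial (Fin n × Fin 2) k) ^ p))

theorem exists_carry : ∃ Cn : MvPolynomial (Fin n) ℤ,
    (∑ i, X i) ^ p = (∑ i, (X i : MvPolynomial (Fin n) ℤ) ^ p) + (p : MvPolynomial (Fin n) ℤ) * Cn := by
  have h : (C (p : ℤ) : MvPolynomial (Fin n) ℤ) ∣ (∑ i, X i) ^ p - ∑ i, X i ^ p := by
    rw [C_dvd_iff_zmod, map_sub, map_pow, map_sum, map_sum, sum_pow_char]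
    simp [map_pow]
  obtain ⟨Cn, hC⟩ := h
  exact ⟨Cn, by rw [show ((p : MvPolynomial (Fin n) ℤ)) = C (p : ℤ) from (map_natCast C p).symm]; linear_combination hC⟩

/-- the substitution `(a, b, -(a + b), 0, …)` -/
def subst (hn : 3 ≤ n) (R : Type*) [CommRing R] (i : Fin n) : MvPolynomial (Fin 2) R :=
  if (i : ℕ) = 0 then X 0 else if (i : ℕ) = 1 then X 1 else if i = (⟨2, hn⟩ : Fin n) then -(X 0 + X 1) else 0

theorem sum_subst_pow (hn : 3 ≤ n) (R : Type*) [CommRing R] (e : ℕ) (he : e ≠ 0) :
    ∑ i, subst n hn R i ^ e = X 0 ^ e + X 1 ^ e + (-(X 0 + X 1)) ^ e := by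
  have h : (Finset.univ : Finset (Fin n)) ⊇ {⟨0, by omega⟩, ⟨1, by omega⟩, ⟨2, hn⟩} := Finset.subset_univ _
  rw [← Finset.sum_subset h fun i _ hi => ?_]
  · rw [Finset.sum_insert (by simp), Finset.sum_insert (by simp), Finset.sum_singleton, ← add_assoc]
    simp [subst]
  · simp only [Finset.mem_insert, Finset.mem_singleton, Fin.ext_iff, not_or] at hi
    rw [subst, if_neg hi.1, if_neg hi.2.1, if_neg (fun h => hi.2.2 (congrArg Fin.val h)), zero_pow he]

/-- the exponent `(p - 1, 1)` -/
def expo : Fin 2 →₀ ℕ := Finsupp.single 0 (p - 1) + Finsupp.single 1 1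

theorem coeff_carry {Cn : MvPolynomial (Fin n) ℤ}
    (hC : (∑ i, X i) ^ p = (∑ i, (X i : MvPolynomial (Fin n) ℤ) ^ p) + (p : MvPolynomial (Fin n) ℤ) * Cn)
    (hn : 3 ≤ n) : coeff (expo p) (aeval (subst n hn ℤ) Cn) = -(-1) ^ p := by
  have h := congrArg (aeval (R := ℤ) (subst n hn ℤ)) hC
  simp only [map_add, map_mul, map_pow, map_sum, aeval_X, map_natCast] at h
  have h1 := sum_subst_pow n hn ℤ 1 one_ne_zero
  simp only [pow_one] at h1
  rw [h1, sum_subst_pow n hn ℤ p hp.out.ne_zero, show (X 0 : MvPolynomial (Fin 2) ℤ) + X 1 + -(X 0 + X 1) = 0 by ring,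
    zero_pow hp.out.ne_zero, neg_pow] at h
  have hc := congrArg (coeff (expo p)) h
  rw [coeff_zero, coeff_add, coeff_add, coeff_add, X_pow_eq_monomial, X_pow_eq_monomial, coeff_monomial, coeff_monomial,
    if_neg, if_neg, show ((-1 : MvPolynomial (Fin 2) ℤ) ^ p) = C ((-1) ^ p) by simp, coeff_C_mul,
    show (p : MvPolynomial (Fin 2) ℤ) = C (p : ℤ) from (map_natCast C p).symm, coeff_C_mul] at hc
  · have hbin : coeff (expo p) ((X 0 + X 1 : MvPolynomial (Fin 2) ℤ) ^ p) = p := by
      rw [add_pow, coeff_sum, Finset.sum_eq_single (p - 1)]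
      · rw [X_pow_eq_monomial, X_pow_eq_monomial, monomial_mul, ← C_eq_coe_nat, mul_comm, coeff_C_mul, coeff_monomial,
          if_pos (by rw [show p - (p - 1) = 1 by have := hp.out.two_le; omega]; rfl), Nat.choose_symm hp.out.one_le]
        simp
      · intro j hj hjne
        rw [X_pow_eq_monomial, X_pow_eq_monomial, monomial_mul, ← C_eq_coe_nat, mul_comm, coeff_C_mul, coeff_monomial,
          if_neg, mul_zero]
        intro he
        have := DFunLike.congr_fun he 0
        simp [expo] at this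
        exact hjne this
      · exact fun h => absurd (Finset.mem_range.mpr (by have := hp.out.two_le; omega)) h
    rw [hbin] at hc
    refine mul_left_cancel₀ (show (p : ℤ) ≠ 0 by exact_mod_cast hp.out.ne_zero) ?_
    linear_combination -hc
  · intro he
    have := DFunLike.congr_fun he 0
    simp [expo] at this
    have := hp.out.two_le
    omega
  · intro he
    have := DFunLike.congr_fun he 1
    simp [expo] at this

/-- projection onto balanced monomials followed by the substitution -/
def balanced (hn : 3 ≤ n) : MvPolynomial (Fin n × Fin 2) k →ₗ[k] MvPolynomial (Fin 2) k :=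
  (basisMonomials (Fin n × Fin 2) k).constr k fun e =>
    if ∀ i, e (i, (0 : Fin 2)) = e (i, (1 : Fin 2)) then ∏ i, subst n hn k i ^ e (i, (0 : Fin 2)) else 0

omit [CharP k p] in
theorem balanced_monomial (hn : 3 ≤ n) (e : Fin n × Fin 2 →₀ ℕ) : balanced k n hn (monomial e 1) =
    if ∀ i, e (i, (0 : Fin 2)) = e (i, (1 : Fin 2)) then ∏ i, subst n hn k i ^ e (i, (0 : Fin 2)) else 0 :=
  (basisMonomials (Fin n × Fin 2) k).constr_basis k _ e

omit [CharP k p] in
theorem balanced_pair (hn : 3 ≤ n) (i : Fin n) (h : MvPolynomial (Fin n × Fin 2) k) :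
    balanced k n hn (X (i, (0 : Fin 2)) * X (i, (1 : Fin 2)) * h) = subst n hn k i * balanced k n hn h := by
  classical
  induction h using MvPolynomial.induction_on' with
  | add a b ha hb => rw [mul_add, map_add, ha, hb, map_add, mul_add]
  | monomial e c =>
    rw [show monomial e c = c • monomial e (1 : k) by rw [smul_monomial, smul_eq_mul, mul_one], mul_smul_comm, map_smul,
      map_smul, mul_smul_comm, X, X, monomial_mul, monomial_mul, mul_one, mul_one, balanced_monomial, balanced_monomial]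
    congr 1
    have h0 : ∀ j, (Finsupp.single (i, (0 : Fin 2)) (1 : ℕ) + Finsupp.single (i, (1 : Fin 2)) 1 + e : Fin n × Fin 2 →₀ ℕ) (j, (0 : Fin 2)) =
        (if i = j then 1 else 0) + e (j, (0 : Fin 2)) := fun j => by simp [Finsupp.single_apply]
    have h1 : ∀ j, (Finsupp.single (i, (0 : Fin 2)) (1 : ℕ) + Finsupp.single (i, (1 : Fin 2)) 1 + e : Fin n × Fin 2 →₀ ℕ) (j, (1 : Fin 2)) =
        (if i = j then 1 else 0) + e (j, (1 : Fin 2)) := fun j => by simp [Finsupp.single_apply]
    simp only [h0, h1, add_right_inj]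
    split
    · simp only [pow_add, Finset.prod_mul_distrib]
      congr 1
      simp [Finset.prod_ite_eq]
    · rw [mul_zero]

theorem balanced_mem (hn : 3 ≤ n) {f : MvPolynomial (Fin n × Fin 2) k} (hf : f ∈ nbhdIdeal p k n) :
    balanced k n hn f ∈ Ideal.span (Set.range fun j : Fin 2 => (X j : MvPolynomial (Fin 2) k) ^ p) := by
  classical
  set J := Ideal.span (Set.range fun j : Fin 2 => (X j : MvPolynomial (Fin 2) k) ^ p)
  suffices h : ∀ c, balanced k n hn (f * c) ∈ J by simpa using h 1
  induction hf using Submodule.span_induction with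
  | zero => simp
  | add a b _ _ ha hb => intro c; rw [add_mul, map_add]; exact add_mem (ha c) (hb c)
  | smul r a _ ha => intro c; rw [smul_eq_mul, mul_assoc, mul_left_comm]; exact ha _
  | mem g hg =>
    intro c
    rcases hg with rfl | ⟨⟨i, j⟩, rfl⟩
    · have hs := sum_subst_pow n hn k 1 one_ne_zero
      simp only [pow_one] at hs
      rw [quad, Finset.sum_mul, map_sum, Finset.sum_congr rfl fun i _ => balanced_pair k n hn i c, ← Finset.sum_mul,
        hs, show (X 0 : MvPolynomial (Fin 2) k) + X 1 + -(X 0 + X 1) = 0 by ring, zero_mul]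
      exact zero_mem _
    · have hi : subst n hn k i ^ p ∈ J := by
        have hX : ∀ j : Fin 2, (X j : MvPolynomial (Fin 2) k) ^ p ∈ J := fun j => Ideal.subset_span ⟨j, rfl⟩
        unfold subst
        split_ifs
        · exact hX 0
        · exact hX 1
        · rw [neg_pow, add_pow_char]
          exact J.mul_mem_left _ (add_mem (hX 0) (hX 1))
        · rw [zero_pow hp.out.ne_zero]; exact zero_mem _
      induction c using MvPolynomial.induction_on' with
      | add a b ha hb => rw [mul_add, map_add]; exact add_mem ha hb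
      | monomial e c =>
        change balanced k n hn (X (i, j) ^ p * monomial e c) ∈ J
        rw [show monomial e c = c • monomial e (1 : k) by rw [smul_monomial, smul_eq_mul, mul_one], mul_smul_comm,
          map_smul, X_pow_eq_monomial, monomial_mul, mul_one, balanced_monomial]
        refine J.smul_of_tower_mem c ?_
        split_ifs with h
        · have hge : p ≤ (Finsupp.single (i, j) p + e) (i, (0 : Fin 2)) := by
            have := h i
            fin_cases j <;> simp at this ⊢ <;> omega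
          rw [← Finset.mul_prod_erase Finset.univ _ (Finset.mem_univ i), ← Nat.add_sub_cancel' hge, pow_add,
            mul_assoc]
          exact J.mul_mem_right _ hi
        · exact zero_mem _

omit [CharP k p] in
theorem balanced_aeval (hn : 3 ≤ n) (P : MvPolynomial (Fin n) ℤ) :
    balanced k n hn (aeval (fun i : Fin n => (X (i, (0 : Fin 2)) * X (i, (1 : Fin 2)) : MvPolynomial (Fin n × Fin 2) k)) P) =
      aeval (subst n hn k) P := by
  have h : ∀ (P : MvPolynomial (Fin n) ℤ) (h : MvPolynomial (Fin n × Fin 2) k), balanced k n hn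
      (aeval (fun i : Fin n => (X (i, (0 : Fin 2)) * X (i, (1 : Fin 2)) : MvPolynomial (Fin n × Fin 2) k)) P * h) =
        aeval (subst n hn k) P * balanced k n hn h := by
    intro P
    induction P using MvPolynomial.induction_on with
    | C a => intro h; simp [map_zsmul, ← zsmul_eq_mul]
    | add a b ha hb => intro h; rw [map_add, add_mul, map_add, ha, hb, map_add, add_mul]
    | mul_X a i ha =>
      intro h
      simp only [map_mul (aeval _), aeval_X]
      rw [mul_assoc, ha, balanced_pair, mul_assoc]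
  have h1 : balanced k n hn 1 = 1 := by
    rw [show (1 : MvPolynomial (Fin n × Fin 2) k) = monomial 0 1 from rfl, balanced_monomial]
    simp
  simpa [h1] using h P 1

/-- the key non-membership -/
theorem carry_notMem (hn : 3 ≤ n) {Cn : MvPolynomial (Fin n) ℤ}
    (hC : (∑ i, X i) ^ p = (∑ i, (X i : MvPolynomial (Fin n) ℤ) ^ p) + (p : MvPolynomial (Fin n) ℤ) * Cn) (c : k) :
    aeval (fun i : Fin n => (X (i, (0 : Fin 2)) * X (i, (1 : Fin 2)) : MvPolynomial (Fin n × Fin 2) k)) Cn - C c ∉
      nbhdIdeal p k n := by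
  classical
  intro hmem
  have h := balanced_mem p k n hn hmem
  have hker : ∀ f ∈ Ideal.span (Set.range fun j : Fin 2 => (X j : MvPolynomial (Fin 2) k) ^ p),
      coeff (expo p) f = 0 := by
    intro f hf
    obtain ⟨g, rfl⟩ := Ideal.mem_span_range_iff_exists_fun.mp hf
    rw [coeff_sum, Finset.sum_eq_zero]
    intro j _
    rw [mul_comm, X_pow_eq_monomial, coeff_monomial_mul', if_neg]
    intro hle
    have h1 := hle j
    fin_cases j <;> simp [expo] at h1 <;> have := hp.out.two_le <;> omega
  have hC1 : balanced k n hn (C c) = C c := by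
    rw [show C c = c • (monomial 0 (1 : k) : MvPolynomial (Fin n × Fin 2) k) by
        rw [smul_monomial, smul_eq_mul, mul_one]; rfl, map_smul, balanced_monomial]
    simp [smul_eq_C_mul]
  have hmap : map (Int.castRingHom k) (aeval (subst n hn ℤ) Cn) = aeval (subst n hn k) Cn := by
    refine (map_aeval (subst n hn ℤ) (map (Int.castRingHom k)) Cn).trans ?_
    rw [aeval_def]
    refine congrArg₂ (fun f g => eval₂ f g Cn) (RingHom.ext_int _ _) (funext fun i => ?_)
    simp only [subst]
    split_ifs <;> simp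
  have h2 := hker _ h
  rw [map_sub, balanced_aeval, ← hmap, hC1, coeff_sub, coeff_map, coeff_carry p n hC hn, coeff_C, if_neg, sub_zero] at h2
  · simp at h2
  · intro he
    have := DFunLike.congr_fun he 1
    simp [expo] at this

variable [PerfectRing k p]

theorem not_isW2Liftable_nbhd (hn : 3 ≤ n) :
    ¬ FrobAlg.IsW2Liftable p k (MvPolynomial (Fin n × Fin 2) k ⧸ nbhdIdeal p k n) := by
  rintro ⟨B, _, ι, π, h⟩
  obtain ⟨Cn, hC⟩ := exists_carry p n
  choose w hw using fun v : Fin n × Fin 2 => h.surj (Ideal.Quotient.mk (nbhdIdeal p k n) (X v))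
  let u : Fin n → B := fun i => w (i, (0 : Fin 2)) * w (i, (1 : Fin 2))
  have hq : π (∑ i, u i) = 0 := by
    simp only [u, map_sum, map_mul, hw]
    simp only [← map_mul, ← map_sum]
    exact Ideal.Quotient.eq_zero_iff_mem.mpr (Ideal.subset_span (Set.mem_insert _ _))
  obtain ⟨g, hg⟩ := IsLift_ker_dvd p k h hq
  have hv : ∀ v, π (w v ^ p) = 0 := fun v => by
    rw [map_pow, hw, ← map_pow]
    exact Ideal.Quotient.eq_zero_iff_mem.mpr (Ideal.subset_span (Set.mem_insert_of_mem _ ⟨v, rfl⟩))
  choose a ha using fun v => IsLift_ker_dvd p k h (hv v)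
  have hsq : (p : B) ^ 2 = 0 := (pow_two _).trans (natCast_sq_of_hom p k ι)
  have hpz : (p : B) * aeval u Cn = 0 := by
    have h1 := congrArg (aeval (R := ℤ) u) hC
    simp only [map_add, map_mul, map_pow, map_sum, aeval_X, map_natCast] at h1
    rw [hg, mul_pow, show (p : B) ^ p = 0 from pow_eq_zero_of_le hp.out.two_le hsq, zero_mul, Finset.sum_eq_zero (s := Finset.univ), zero_add] at h1
    · exact h1.symm
    · intro i _
      simp only [u, mul_pow, ha]
      linear_combination (a (i, (0 : Fin 2)) * a (i, (1 : Fin 2))) * hsq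
  have h0 := IsLift_ann p k h hpz
  refine carry_notMem p k n hn hC 0 ?_
  rw [map_zero, sub_zero, ← Ideal.Quotient.eq_zero_iff_mem, ← h0]
  have hu : ∀ i, π (u i) = Ideal.Quotient.mk (nbhdIdeal p k n) (X (i, (0 : Fin 2)) * X (i, (1 : Fin 2))) := fun i => by
    simp [u, hw]
  exact (map_aeval _ _ Cn).trans ((congrArg₂ (fun f g => eval₂ f g Cn) (RingHom.ext_int _ _) (funext fun i => (hu i).symm)).trans
    (map_aeval _ _ Cn).symm)

theorem not_isFLiftable_cone (hn : 3 ≤ n) :
    ¬ FrobAlg.IsFLiftable p k (MvPolynomial (Fin n × Fin 2) k ⧸ Ideal.span {quad k n}) := by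
  rintro ⟨B, _, ι, π, Φ, h⟩
  obtain ⟨Cn, hC⟩ := exists_carry p n
  choose w hw using fun v : Fin n × Fin 2 => h.surj (Ideal.Quotient.mk (Ideal.span {quad k n}) (X v))
  let u : Fin n → B := fun i => w (i, (0 : Fin 2)) * w (i, (1 : Fin 2))
  have hq : π (∑ i, u i) = 0 := by
    simp only [u, map_sum, map_mul, hw]
    simp only [← map_mul, ← map_sum]
    exact Ideal.Quotient.eq_zero_iff_mem.mpr (Ideal.subset_span rfl)
  obtain ⟨g, hg⟩ := IsLift_ker_dvd p k h.toIsLift hq
  choose a ha using fun v => IsLift_ker_dvd p k h.toIsLift (b := Φ (w v) - w v ^ p)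
    (by rw [map_sub, h.red, map_pow, sub_self])
  have hsq : (p : B) ^ 2 = 0 := (pow_two _).trans (natCast_sq_of_hom p k ι)
  have hΦ : ∀ v, Φ (w v) = w v ^ p + (p : B) * a v := fun v => by rw [← ha v]; ring
  let E : B := -aeval u Cn + ∑ i, (a (i, (0 : Fin 2)) * w (i, (1 : Fin 2)) ^ p + w (i, (0 : Fin 2)) ^ p * a (i, (1 : Fin 2))) - Φ g
  have hpz : (p : B) * E = 0 := by
    have h1 := congrArg (aeval (R := ℤ) u) hC
    simp only [map_add, map_mul, map_pow, map_sum, aeval_X, map_natCast] at h1
    rw [hg, mul_pow, show (p : B) ^ p = 0 from pow_eq_zero_of_le hp.out.two_le hsq, zero_mul] at h1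
    have h2 := congrArg Φ hg
    simp only [u, map_sum, map_mul, map_natCast, hΦ] at h2
    have h3 : ∀ i : Fin n, (w (i, (0 : Fin 2)) ^ p + (p : B) * a (i, (0 : Fin 2))) * (w (i, (1 : Fin 2)) ^ p + (p : B) * a (i, (1 : Fin 2))) =
        u i ^ p + (p : B) * (a (i, (0 : Fin 2)) * w (i, (1 : Fin 2)) ^ p + w (i, (0 : Fin 2)) ^ p * a (i, (1 : Fin 2))) := fun i => by
      simp only [u, mul_pow]
      linear_combination (a (i, (0 : Fin 2)) * a (i, (1 : Fin 2))) * hsq
    rw [Finset.sum_congr rfl fun i _ => h3 i, Finset.sum_add_distrib, ← Finset.mul_sum] at h2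
    simp only [E]
    linear_combination h2 + h1
  have h0 := IsLift_ann p k h.toIsLift hpz
  -- p-th powers are constants modulo the neighbourhood ideal
  have hpow : ∀ f : MvPolynomial (Fin n × Fin 2) k, ∃ c, f ^ p - C c ∈ nbhdIdeal p k n := by
    intro f
    induction f using MvPolynomial.induction_on with
    | C a => exact ⟨a ^ p, by rw [map_pow, sub_self]; exact zero_mem _⟩
    | add a b ha hb =>
      obtain ⟨c, hc⟩ := ha
      obtain ⟨c', hc'⟩ := hb
      refine ⟨c + c', ?_⟩
      rw [add_pow_char, map_add, add_sub_add_comm]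
      exact add_mem hc hc'
    | mul_X a v _ =>
      refine ⟨0, ?_⟩
      rw [map_zero, sub_zero, mul_pow]
      exact Ideal.mul_mem_left _ _ (Ideal.subset_span (Set.mem_insert_of_mem _ ⟨v, rfl⟩))
  have hle : Ideal.span {quad k n} ≤ nbhdIdeal p k n := Ideal.span_mono (Set.singleton_subset_iff.mpr (Set.mem_insert _ _))
  let θ := Ideal.Quotient.factor hle
  have hθw : ∀ v, θ (π (w v)) = Ideal.Quotient.mk (nbhdIdeal p k n) (X v) := fun v => by
    rw [hw]; exact Ideal.Quotient.factor_mk hle _
  have hθv : ∀ v, θ (π (w v)) ^ p = 0 := fun v => by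
    rw [hθw, ← map_pow]
    exact Ideal.Quotient.eq_zero_iff_mem.mpr (Ideal.subset_span (Set.mem_insert_of_mem _ ⟨v, rfl⟩))
  obtain ⟨f, hf⟩ := Ideal.Quotient.mk_surjective (θ (π g))
  obtain ⟨c, hc⟩ := hpow f
  have h1 := congrArg θ h0
  simp only [E, map_sub, map_add, map_neg, map_sum, map_mul, hθv, mul_zero, zero_mul, add_zero, Finset.sum_const_zero,
    map_zero, h.red, map_pow] at h1
  refine carry_notMem p k n hn hC (-c) ?_
  rw [map_neg, sub_neg_eq_add, ← Ideal.Quotient.eq_zero_iff_mem, map_add]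
  have hfc : Ideal.Quotient.mk (nbhdIdeal p k n) (C c) = θ (π g) ^ p := by
    rw [← hf, ← map_pow, eq_comm, Ideal.Quotient.eq]
    exact hc
  have hu : ∀ i, θ (π (u i)) = Ideal.Quotient.mk (nbhdIdeal p k n) (X (i, (0 : Fin 2)) * X (i, (1 : Fin 2))) := fun i => by
    simp [u, hθw]
  have hae : Ideal.Quotient.mk (nbhdIdeal p k n)
      (aeval (fun i : Fin n => (X (i, (0 : Fin 2)) * X (i, (1 : Fin 2)) : MvPolynomial (Fin n × Fin 2) k)) Cn) =
      θ (π (aeval u Cn)) :=
    (map_aeval _ _ Cn).trans ((congrArg₂ (fun f g => eval₂ f g Cn) (RingHom.ext_int _ _) (funext fun i => (hu i).symm)).trans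
      (map_aeval _ (θ.comp π) Cn).symm)
  rw [hae, hfc]
  linear_combination -h1

end Groth.Agent.H27Frob
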