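import Groth.Prelude.Def_W4c1liftfrobW2
import Mathlib

/-!
# Flatness over `W₂(k)`
-/

set_option autoImplicit false
universe u v

open TensorProduct

namespace Groth.Agent.H27Frob

theorem flat_iff_of_three_ideals {R : Type u} [CommRing R] (t : R) (ht : t * t = 0)
    (hI : ∀ I : Ideal R, I = ⊥ ∨ I = Ideal.span {t} ∨ I = ⊤)
    (hann : ∀ r, t * r = 0 → t ∣ r) (M : Type v) [AddCommGroup M] [Module R M] :
    Module.Flat R M ↔ ∀ m : M, t • m = 0 → ∃ m' : M, m = t • m' := by
  constructor
  · intro _ m hm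
    obtain ⟨k, a, y, hy, ha⟩ := Module.Flat.isTrivialRelation_of_sum_smul_eq_zero
      (f := fun _ : Fin 1 => t) (x := fun _ : Fin 1 => m) (R := R) (by simp [hm])
    choose b hb using fun j => hann (a 0 j) (by simpa using ha j)
    refine ⟨∑ j, b j • y j, (hy 0).trans ?_⟩
    simp only [hb, mul_smul, Finset.smul_sum]
  · intro h
    rw [Module.Flat.iff_rTensor_injective']
    intro I
    rcases hI I with rfl | rfl | rfl
    · exact Function.injective_of_subsingleton _
    · rw [injective_iff_map_eq_zero]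
      intro x hx
      let g : ↥(Ideal.span {t}) := ⟨t, Ideal.mem_span_singleton_self t⟩
      obtain ⟨m, rfl⟩ : ∃ m : M, g ⊗ₜ[R] m = x := by
        clear hx
        induction x using TensorProduct.induction_on with
        | zero => exact ⟨0, TensorProduct.tmul_zero _ _⟩
        | tmul z m =>
          obtain ⟨r, hr⟩ := Ideal.mem_span_singleton'.mp z.2
          exact ⟨r • m, by rw [← TensorProduct.smul_tmul, show r • g = z from Subtype.ext hr]⟩
        | add a b ha hb =>
          obtain ⟨m, rfl⟩ := ha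
          obtain ⟨m', rfl⟩ := hb
          exact ⟨m + m', TensorProduct.tmul_add _ _ _⟩
      have hm : t • m = 0 := by
        have := congrArg (TensorProduct.lid R M) hx
        simpa [g] using this
      obtain ⟨m', rfl⟩ := h m hm
      rw [← TensorProduct.smul_tmul, show t • g = 0 from Subtype.ext ht, TensorProduct.zero_tmul]
    · let e : (↥(⊤ : Ideal R)) ⊗[R] M ≃ₗ[R] R ⊗[R] M :=
        TensorProduct.congr Submodule.topEquiv (LinearEquiv.refl R M)
      have : ((⊤ : Ideal R).subtype.rTensor M) = e.toLinearMap := by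
        ext a m
        rfl
      rw [this]
      exact e.injective

variable (p : ℕ) [hp : Fact p.Prime] (k : Type u) [Field k] [CharP k p] [PerfectRing k p]

theorem truncate_eq_zero_iff (X : WittVector p k) :
    WittVector.truncate 2 X = 0 ↔ X.coeff 0 = 0 ∧ X.coeff 1 = 0 := by
  rw [← RingHom.mem_ker, WittVector.mem_ker_truncate]
  exact ⟨fun h => ⟨h 0 (by omega), h 1 (by omega)⟩, fun h i hi => by
    interval_cases i
    exacts [h.1, h.2]⟩

theorem natCast_dvd_W2 {x : FrobAlg.W2 p k} (hx : FrobAlg.res p k x = 0) :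
    (p : FrobAlg.W2 p k) ∣ x := by
  obtain ⟨X, rfl⟩ := WittVector.truncate_surjective p 2 k x
  rw [FrobAlg.res_truncate] at hx
  obtain ⟨Y, hY⟩ := (WittVector.frobenius_bijective p k).surjective (X.shift 1)
  have h1 : X = WittVector.verschiebung (X.shift 1) :=
    WittVector.eq_iterate_verschiebung (n := 1) (fun i hi => by interval_cases i; exact hx)
  rw [h1, ← hY, WittVector.verschiebung_frobenius, map_mul, map_natCast]
  exact Dvd.intro_left _ rfl

theorem res_eq_zero_of_natCast_mul {x : FrobAlg.W2 p k} (hx : (p : FrobAlg.W2 p k) * x = 0) :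
    FrobAlg.res p k x = 0 := by
  obtain ⟨X, rfl⟩ := WittVector.truncate_surjective p 2 k x
  rw [mul_comm, ← map_natCast (WittVector.truncate 2), ← map_mul, truncate_eq_zero_iff,
    WittVector.mul_charP_coeff_succ] at hx
  rw [FrobAlg.res_truncate]
  exact eq_zero_of_pow_eq_zero hx.2

theorem natCast_sq_W2 : (p : FrobAlg.W2 p k) * p = 0 := by
  rw [← map_natCast (WittVector.truncate 2), ← map_mul, truncate_eq_zero_iff,
    WittVector.mul_charP_coeff_zero, WittVector.mul_charP_coeff_succ, WittVector.coeff_p]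
  simp [hp.out.ne_zero]

theorem isUnit_W2 {x : FrobAlg.W2 p k} (hx : FrobAlg.res p k x ≠ 0) : IsUnit x := by
  obtain ⟨X, rfl⟩ := WittVector.truncate_surjective p 2 k x
  rw [FrobAlg.res_truncate] at hx
  exact (WittVector.isUnit_of_coeff_zero_ne_zero X hx).map _

theorem W2_ideals (I : Ideal (FrobAlg.W2 p k)) :
    I = ⊥ ∨ I = Ideal.span {(p : FrobAlg.W2 p k)} ∨ I = ⊤ := by
  by_cases htop : I = ⊤
  · exact Or.inr (Or.inr htop)
  have hle : ∀ x ∈ I, FrobAlg.res p k x = 0 := fun x hx => by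
    by_contra h
    exact htop (I.eq_top_of_isUnit_mem hx (isUnit_W2 p k h))
  by_cases hbot : I = ⊥
  · exact Or.inl hbot
  refine Or.inr (Or.inl (le_antisymm (fun x hx => Ideal.mem_span_singleton.mpr
    (natCast_dvd_W2 p k (hle x hx))) ?_))
  obtain ⟨x, hx, hx0⟩ := Submodule.exists_mem_ne_zero_of_ne_bot hbot
  obtain ⟨y, rfl⟩ := natCast_dvd_W2 p k (hle x hx)
  rw [Ideal.span_le, Set.singleton_subset_iff]
  have hy : FrobAlg.res p k y ≠ 0 := fun h => hx0 (by
    obtain ⟨z, rfl⟩ := natCast_dvd_W2 p k h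
    rw [← mul_assoc, natCast_sq_W2, zero_mul])
  exact (I.mul_unit_mem_iff_mem (isUnit_W2 p k hy)).mp hx

theorem flat_W2_iff (M : Type v) [AddCommGroup M] [Module (FrobAlg.W2 p k) M] :
    Module.Flat (FrobAlg.W2 p k) M ↔
      ∀ m : M, (p : FrobAlg.W2 p k) • m = 0 → ∃ m' : M, m = (p : FrobAlg.W2 p k) • m' :=
  flat_iff_of_three_ideals _ (natCast_sq_W2 p k) (W2_ideals p k)
    (fun _ hr => natCast_dvd_W2 p k (res_eq_zero_of_natCast_mul p k hr)) M

theorem flat_quotient_W2_iff (B : Type v) [CommRing B] [Algebra (FrobAlg.W2 p k) B]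
    [Module.Flat (FrobAlg.W2 p k) B] (J : Ideal B) :
    Module.Flat (FrobAlg.W2 p k) (B ⧸ J) ↔
      Ideal.span {(p : B)} ⊓ J = Ideal.span {(p : B)} * J := by
  have hB := (flat_W2_iff p k B).mp ‹_›
  have hs : ∀ b : B, (p : FrobAlg.W2 p k) • b = (p : B) * b := fun b => by
    rw [Algebra.smul_def, map_natCast]
  rw [flat_W2_iff]
  constructor
  · intro h
    refine le_antisymm (fun x ⟨hx1, hx2⟩ => ?_) Ideal.mul_le_inf
    obtain ⟨b, rfl⟩ := Ideal.mem_span_singleton.mp hx1
    obtain ⟨m', hm'⟩ := h (Ideal.Quotient.mk J b) (by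
      rw [Algebra.smul_def, map_natCast, ← map_natCast (Ideal.Quotient.mk J), ← map_mul,
        Ideal.Quotient.eq_zero_iff_mem]
      exact hx2)
    obtain ⟨c, rfl⟩ := Ideal.Quotient.mk_surjective m'
    rw [Algebra.smul_def, map_natCast, ← map_natCast (Ideal.Quotient.mk J), ← map_mul,
      Ideal.Quotient.eq] at hm'
    refine Ideal.mem_span_singleton_mul.mpr ⟨b - (p : B) * c, hm', ?_⟩
    have h2 : (p : B) * p = 0 := by
      rw [← map_natCast (algebraMap (FrobAlg.W2 p k) B), ← map_mul, natCast_sq_W2, map_zero]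
    rw [mul_sub, ← mul_assoc, h2, zero_mul, sub_zero]
  · intro h m hm
    obtain ⟨b, rfl⟩ := Ideal.Quotient.mk_surjective m
    rw [Algebra.smul_def, map_natCast, ← map_natCast (Ideal.Quotient.mk J), ← map_mul,
      Ideal.Quotient.eq_zero_iff_mem] at hm
    have hmem : (p : B) * b ∈ Ideal.span {(p : B)} ⊓ J :=
      ⟨Ideal.mem_span_singleton.mpr (dvd_mul_right _ _), hm⟩
    rw [h, Ideal.mem_span_singleton_mul] at hmem
    obtain ⟨j, hj, hjb⟩ := hmem
    obtain ⟨c, hc⟩ := hB (b - j) (by rw [hs, mul_sub, hjb, sub_self])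
    refine ⟨Ideal.Quotient.mk J c, ?_⟩
    rw [Algebra.smul_def, map_natCast, ← map_natCast (Ideal.Quotient.mk J), ← map_mul,
      Ideal.Quotient.eq, ← hs, ← hc, sub_sub_cancel]
    exact hj

end Groth.Agent.H27Frob
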